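import Cfsg.Agent.Lib.Fusion.Dickson
import Cfsg.Agent.Lib.Classical.Dickson.Tools

/-!
# Finite subgroups of `PSL₂` over an algebraically closed field whose order involves `p` once
-/

set_option autoImplicit false
set_option linter.style.haveILetI false

namespace Cfsg.Agent.Char.HalfDegree

open Matrix

local notation "SL2(" F ")" => Matrix.SpecialLinearGroup (Fin 2) F
local notation "PSL2(" F ")" => Matrix.ProjectiveSpecialLinearGroup (Fin 2) F

/-- All elements of order `p` are conjugate to all their nontrivial powers. -/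
def PowConj (p : ℕ) (G : Type*) [Group G] : Prop :=
  ∀ x : G, orderOf x = p → ∀ i : ℕ, ¬ p ∣ i → IsConj x (x ^ i)

theorem PowConj.of_equiv {p : ℕ} {G G' : Type*} [Group G] [Group G'] (e : G ≃* G')
    (h : PowConj p G') : PowConj p G := fun x hx i hi => by
  have h1 := h (e x) (by rw [← hx]; exact orderOf_injective e.toMonoidHom e.injective x) i hi
  rw [← map_pow] at h1
  simpa using e.symm.toMonoidHom.map_isConj h1

/-- The powers of a transvection are conjugate in `PGL₂(p)`. -/
theorem powConj_pgl {p : ℕ} [hp : Fact p.Prime] {K : Type*} [Field K] [Fintype K]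
    (hK : Fintype.card K = p) : PowConj p (Matrix.ProjGenLinGroup (Fin 2) K) := by
  classical
  haveI := Classical.Dickson.finite_pgl K
  haveI : CharP K p := charP_of_card_eq_prime hK
  let u : GL (Fin 2) K := Matrix.GeneralLinearGroup.mkOfDetNeZero !![1, 1; 0, 1] (by simp [Matrix.det_fin_two])
  let x0 : Matrix.ProjGenLinGroup (Fin 2) K := Matrix.ProjGenLinGroup.mk u
  have hu : ∀ m : ℕ, (u ^ m : GL (Fin 2) K).1 = !![1, (m : K); 0, 1] := by
    intro m
    induction m with
    | zero => simp [Matrix.one_fin_two]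
    | succ m ih =>
      rw [pow_succ, Units.val_mul, ih]
      ext a b
      fin_cases a <;> fin_cases b <;> simp [u, Matrix.mul_apply, Fin.sum_univ_two, add_comm]
  have hx0p : x0 ^ p = 1 := by
    rw [← map_pow, show u ^ p = 1 from Units.ext (by
      rw [hu, CharP.cast_eq_zero K p, Units.val_one, Matrix.one_fin_two]), map_one]
  have hx01 : x0 ≠ 1 := by
    intro h
    rw [Matrix.ProjGenLinGroup.mk_eq_one, Matrix.GeneralLinearGroup.center_eq_range_scalar] at h
    obtain ⟨r, hr⟩ := h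
    have := congrArg (fun g : GL (Fin 2) K => g.1 0 1) hr
    simp [u] at this
  have hx0o : orderOf x0 = p := orderOf_eq_prime hx0p hx01
  have hconj : ∀ m : ℕ, ¬ p ∣ m → IsConj x0 (x0 ^ m) := by
    intro m hm
    have hm0 : (m : K) ≠ 0 := fun h => hm ((CharP.cast_eq_zero_iff K p m).mp h)
    let dm : GL (Fin 2) K :=
      Matrix.GeneralLinearGroup.mkOfDetNeZero !![(m : K), 0; 0, 1] (by simp [Matrix.det_fin_two, hm0])
    refine isConj_iff.mpr ⟨Matrix.ProjGenLinGroup.mk dm, ?_⟩
    rw [← map_pow, mul_inv_eq_iff_eq_mul, ← map_mul, ← map_mul]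
    congr 1
    refine Units.ext ?_
    rw [Units.val_mul, Units.val_mul, hu]
    ext a b
    fin_cases a <;> fin_cases b <;> simp [u, dm, Matrix.mul_apply, Fin.sum_univ_two]
  have hfac : (Nat.card (Matrix.ProjGenLinGroup (Fin 2) K)).factorization p = 1 := by
    rw [Classical.Dickson.card_pgl, hK]
    have h2 : ¬ p ∣ p ^ 2 - 1 := fun h => hp.out.not_dvd_one (by
      have h3 := Nat.dvd_sub (dvd_pow_self p two_ne_zero) h
      rwa [Nat.sub_sub_self (Nat.one_le_pow _ _ hp.out.pos)] at h3)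
    rw [Nat.factorization_mul hp.out.ne_zero (fun h => h2 (by rw [h]; exact dvd_zero p)), Finsupp.add_apply,
      hp.out.factorization_self, Nat.factorization_eq_zero_of_not_dvd h2]
  intro x hx i hi
  let Px : Sylow p (Matrix.ProjGenLinGroup (Fin 2) K) :=
    Sylow.ofCard (Subgroup.zpowers x) (by rw [Nat.card_zpowers, hx, hfac, pow_one])
  let P0 : Sylow p (Matrix.ProjGenLinGroup (Fin 2) K) :=
    Sylow.ofCard (Subgroup.zpowers x0) (by rw [Nat.card_zpowers, hx0o, hfac, pow_one])
  obtain ⟨g, hg⟩ := MulAction.exists_smul_eq (Matrix.ProjGenLinGroup (Fin 2) K) P0 Px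
  have hmem : x ∈ ((g • P0 : Sylow p _) : Subgroup _) := by
    rw [hg]; exact Subgroup.mem_zpowers x
  rw [Sylow.coe_subgroup_smul] at hmem
  obtain ⟨y, hy, hyx⟩ := hmem
  have hy' : y ∈ Submonoid.powers x0 := mem_powers_iff_mem_zpowers.mpr hy
  obtain ⟨j, rfl⟩ := Submonoid.mem_powers_iff _ _ |>.mp hy'
  have hyx' : g * x0 ^ j * g⁻¹ = x := hyx
  have hj : ¬ p ∣ j := by
    rintro ⟨c, rfl⟩
    rw [pow_mul, hx0p, one_pow, mul_one, mul_inv_cancel] at hyx'
    rw [← hyx', orderOf_one] at hx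
    exact hp.out.ne_one hx.symm
  have h1 : IsConj x0 x := (hconj j hj).trans (isConj_iff.mpr ⟨g, hyx'⟩)
  have h2 : IsConj (x0 ^ (j * i)) (x ^ i) := isConj_iff.mpr ⟨g, by
    rw [pow_mul, ← hyx', conj_pow]⟩
  exact h1.symm.trans ((hconj (j * i) fun h => ((Nat.Prime.dvd_mul hp.out).mp h).elim hj hi).trans h2)

theorem noncomm_not_le_borel {p : ℕ} [hp : Fact p.Prime] {F : Type*} [Field F] [Fintype F]
    [CharP F p] (hp2 : p ≠ 2) {a b : PSL2(F)} (ha : a ∈ Classical.Dickson.borelP F)
    (hb : b ∈ Classical.Dickson.borelP F) (hap : a ^ p = 1) (hbp : b ^ p = 1) : a * b = b * a := by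
  obtain ⟨s, hs, rfl⟩ := ha
  obtain ⟨t, ht, rfl⟩ := hb
  have key : ∀ s : SL2(F), s.1 1 0 = 0 → Small.PSL2.pr s ^ p = 1 → s.1 0 0 = s.1 1 1 := by
    intro s h10 hsp
    rw [← map_pow, Small.PSL2.pr, QuotientGroup.mk'_apply, QuotientGroup.eq_one_iff,
      Matrix.SpecialLinearGroup.mem_center_iff] at hsp
    obtain ⟨r, hr, hrs⟩ := hsp
    have hpow : ∀ m : ℕ, (s.1 ^ m) 1 0 = 0 ∧ (s.1 ^ m) 0 0 = s.1 0 0 ^ m := by
      intro m
      induction m with
      | zero => simp
      | succ m ih => simp [pow_succ, Matrix.mul_apply, Fin.sum_univ_two, ih.1, ih.2, h10]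
    have h00 : s.1 0 0 ^ p = r := by
      have := congrFun (congrFun hrs 0) 0
      rw [Matrix.SpecialLinearGroup.coe_pow, (hpow p).2] at this
      simpa using this.symm
    rw [Fintype.card_fin] at hr
    have h2 : (s.1 0 0 ^ 2 - 1) ^ p = 0 := by
      rw [sub_pow_char (p := p), one_pow, ← pow_mul, mul_comm, pow_mul, h00, hr, sub_self]
    have h3 : s.1 0 0 ^ 2 = 1 := sub_eq_zero.mp ((pow_eq_zero_iff hp.out.ne_zero).mp h2)
    have hd : s.1 0 0 * s.1 1 1 - s.1 0 1 * s.1 1 0 = 1 := by
      rw [← Matrix.det_fin_two]; exact s.2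
    rw [h10] at hd
    linear_combination s.1 1 1 * h3 - s.1 0 0 * hd
  have h10s : s.1 1 0 = 0 := hs
  have h10t : t.1 1 0 = 0 := ht
  have hs' := key s h10s hap
  have ht' := key t h10t hbp
  rw [← map_mul, ← map_mul]
  congr 1
  refine Subtype.ext (Matrix.ext fun i j => ?_)
  rw [Matrix.SpecialLinearGroup.coe_mul, Matrix.SpecialLinearGroup.coe_mul]
  fin_cases i <;> fin_cases j <;>
    simp [Matrix.mul_apply, Fin.sum_univ_two, h10s, h10t, ← hs', ← ht'] <;> ring

/-- A finite subgroup of `PSL₂` over a finite field, of order involving `p` once, containing two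
noncommuting elements of order `p`. -/
theorem classify_finite {p : ℕ} [hp : Fact p.Prime] (hp5 : 5 ≤ p) {F : Type*} [Field F] [Fintype F]
    [CharP F p] (H : Subgroup PSL2(F)) (hdvd : p ∣ Nat.card H) (hsq : ¬ p ^ 2 ∣ Nat.card H)
    (hne : ∃ x ∈ H, ∃ y ∈ H, x ^ p = 1 ∧ y ^ p = 1 ∧ x * y ≠ y * x)
    (hstd : ∀ g : SL2(ZMod p),
      Small.PSL2.pr (Matrix.SpecialLinearGroup.map (ZMod.castHom dvd_rfl F) g) ∈ H) :
    Nonempty (H ≃* PSL2(ZMod p)) ∨ PowConj p H := by
  classical
  have h2 : (2 : F) ≠ 0 := by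
    rw [show (2 : F) = (2 : ℕ) by norm_num, Ne, CharP.cast_eq_zero_iff F p]
    exact fun h => by have := Nat.le_of_dvd two_pos h; omega
  obtain ⟨f, -, hq⟩ := FiniteField.card F p
  have hgcd := Classical.Dickson.two_dvd_pred (F := F) h2
  have hpq : p ∣ Fintype.card F := by rw [hq]; exact dvd_pow_self p f.pos.ne'
  have hcop2 : ¬ p ∣ 2 := fun h => by have := Nat.le_of_dvd two_pos h; omega
  have hk : ∀ k, (k ∣ (Fintype.card F - 1) / Nat.gcd 2 (Fintype.card F - 1) ∨
      k ∣ (Fintype.card F + 1) / Nat.gcd 2 (Fintype.card F - 1)) → ¬ p ∣ k := by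
    intro k hk hpk
    rw [hgcd] at hk
    have h1 : 1 ≤ Fintype.card F := Fintype.card_pos
    have hev : 2 ∣ Fintype.card F - 1 := hgcd ▸ Nat.gcd_dvd_right _ _
    refine hp.out.not_dvd_one ?_
    rcases hk with h | h
    · have h3 := Nat.dvd_sub hpq (hpk.trans (h.trans (Nat.div_dvd_of_dvd hev)))
      rwa [show Fintype.card F - (Fintype.card F - 1) = 1 by omega] at h3
    · have hev2 : 2 ∣ Fintype.card F + 1 := by omega
      have h3 := Nat.dvd_sub (hpk.trans (h.trans (Nat.div_dvd_of_dvd hev2))) hpq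
      rwa [Nat.add_sub_cancel_left] at h3
  rcases Classical.Dickson.cases_on H with ⟨k, hk', h⟩ | ⟨g, hg, -⟩ | ⟨-, ⟨e⟩⟩ | ⟨-, ⟨e⟩⟩ | ⟨-, ⟨e⟩⟩ |
      ⟨K, m, -, hKm, hK⟩
  · rcases h with ⟨-, hc⟩ | ⟨-, ⟨e⟩⟩
    · exact absurd (hc ▸ hdvd) (hk k hk')
    · rw [Nat.card_congr e.toEquiv, DihedralGroup.nat_card] at hdvd
      exact absurd ((hp.out.dvd_mul.mp hdvd).resolve_left hcop2) (hk k hk')
  · obtain ⟨x, hx, y, hy, hxp, hyp, hxy⟩ := hne
    refine absurd ((Small.PSL2.conjP g).injective ?_) hxy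
    rw [map_mul, map_mul]
    exact noncomm_not_le_borel (by omega) (hg ⟨x, hx, rfl⟩) (hg ⟨y, hy, rfl⟩)
      (by rw [← map_pow, hxp, map_one]) (by rw [← map_pow, hyp, map_one])
  · rw [Nat.card_congr e.toEquiv, nat_card_alternatingGroup, Nat.card_eq_fintype_card,
      Fintype.card_fin] at hdvd
    have := Nat.le_of_dvd (by decide) hdvd
    norm_num [Nat.factorial] at this hdvd
    interval_cases p <;> simp_all +decide
  · rw [Nat.card_congr e.toEquiv, Nat.card_perm, Nat.card_eq_fintype_card, Fintype.card_fin] at hdvd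
    exfalso
    have h4 : p ≤ 4 := hp.out.dvd_factorial.mp hdvd
    omega
  · left
    rw [Nat.card_congr e.toEquiv, nat_card_alternatingGroup, Nat.card_eq_fintype_card,
      Fintype.card_fin] at hdvd
    have hp5' : p = 5 := by
      have h5 : p ≤ 5 := hp.out.dvd_factorial.mp
        (hdvd.trans (Nat.div_dvd_of_dvd (by norm_num [Nat.factorial])))
      omega
    let M : SL2(ZMod p) →* H :=
      MonoidHom.codRestrict (Small.PSL2.pr.comp (Matrix.SpecialLinearGroup.map (ZMod.castHom dvd_rfl F)))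
        H hstd
    have hker : M.ker = Subgroup.center SL2(ZMod p) := by
      ext g
      rw [MonoidHom.mem_ker, Subtype.ext_iff]
      show Small.PSL2.pr _ = 1 ↔ _
      rw [Small.PSL2.pr, QuotientGroup.mk'_apply, QuotientGroup.eq_one_iff,
        Matrix.SpecialLinearGroup.mem_center_iff, Matrix.SpecialLinearGroup.mem_center_iff,
        Fintype.card_fin]
      have hinj := (ZMod.castHom (dvd_refl p) F).injective
      constructor
      · rintro ⟨r, -, hr⟩
        have e00 := congrFun (congrFun hr 0) 0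
        have e01 := congrFun (congrFun hr 0) 1
        have e10 := congrFun (congrFun hr 1) 0
        have e11 := congrFun (congrFun hr 1) 1
        simp at e00 e01 e10 e11
        have h01 : g.1 0 1 = 0 := hinj (by simpa using e01.symm)
        have h10 : g.1 1 0 = 0 := hinj (by simpa using e10.symm)
        have h11 : g.1 0 0 = g.1 1 1 := hinj (e00.symm.trans e11)
        have hd : g.1 0 0 * g.1 1 1 - g.1 0 1 * g.1 1 0 = 1 := by
          rw [← Matrix.det_fin_two]; exact g.2
        refine ⟨g.1 0 0, ?_, ?_⟩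
        · rw [h01, h10, ← h11] at hd
          linear_combination hd
        · ext i j
          fin_cases i <;> fin_cases j <;> simp [h01, h10, h11]
      · rintro ⟨r, hr, hg⟩
        refine ⟨ZMod.castHom (dvd_refl p) F r, by rw [← map_pow, hr, map_one], ?_⟩
        ext i j
        have := congrArg (ZMod.castHom (dvd_refl p) F) (congrFun (congrFun hg i) j)
        fin_cases i <;> fin_cases j <;> simpa using this
    have e1 : PSL2(ZMod p) ≃* M.range :=
      (QuotientGroup.quotientMulEquivOfEq hker.symm).trans (QuotientGroup.quotientKerEquivRange M)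
    have hMtop : M.range = ⊤ := by
      refine Subgroup.eq_top_of_card_eq _ ?_
      have hc := Classical.Dickson.card_psl (ZMod p)
      rw [ZMod.card] at hc
      have hg2 : Nat.gcd 2 (p - 1) = 2 := by rw [hp5']; rfl
      rw [hg2] at hc
      rw [← Nat.card_congr e1.toEquiv, Nat.card_congr e.toEquiv, nat_card_alternatingGroup,
        Nat.card_fin]
      subst hp5'
      rw [show Nat.factorial 5 = 120 from rfl]
      simp only [Nat.card_eq_fintype_card] at hc ⊢
      omega
    exact ⟨(e1.trans ((MulEquiv.subgroupCongr hMtop).trans Subgroup.topEquiv)).symm⟩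
  · haveI : Fintype K := Fintype.ofFinite K
    obtain ⟨j, -, hj⟩ : ∃ j, j ≤ (f : ℕ) ∧ Fintype.card K = p ^ j := by
      refine (Nat.dvd_prime_pow hp.out).mp ?_
      rw [← hq, ← hKm, Nat.card_eq_fintype_card]
      refine dvd_pow_self _ ?_
      rintro rfl
      rw [pow_zero] at hKm
      exact absurd hKm.symm Fintype.one_lt_card.ne'
    have hj1 : j = 1 := by
      have hj0 : j ≠ 0 := by
        rintro rfl
        exact absurd hj Fintype.one_lt_card.ne'
      by_contra hne1
      have hd2 : p ^ 2 ∣ 2 * Nat.card H := by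
        rw [Nat.card_eq_fintype_card (α := K), hj] at hK
        rcases hK with ⟨-, h⟩ | ⟨-, -, h⟩
        · rw [h, ← mul_assoc, mul_comm 2, mul_assoc]
          exact (pow_dvd_pow p (by omega)).mul_right _
        · rw [h]
          exact (pow_dvd_pow p (by omega)).mul_right _
      exact hsq (((Nat.Coprime.pow_left 2 ((Nat.Prime.coprime_iff_not_dvd hp.out).mpr hcop2))).dvd_of_dvd_mul_left hd2)
    rw [hj1, pow_one] at hj
    rcases hK with ⟨⟨e⟩, -⟩ | ⟨-, ⟨e⟩, -⟩
    · exact Or.inr ((powConj_pgl hj).of_equiv e)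
    · exact Or.inl ⟨e.trans (Classical.Dickson.pslCongr (ZMod.ringEquivOfPrime K hp.out hj).symm)⟩

/-- A finite subgroup of `PSL₂` over an algebraically closed field, with order involving `p` once
and two noncommuting elements of order `p`. -/
theorem classify_algClosed {p : ℕ} [hp : Fact p.Prime] (hp5 : 5 ≤ p) {k : Type*} [Field k]
    [IsAlgClosed k] [CharP k p] (H : Subgroup PSL2(k)) [Finite H] (hdvd : p ∣ Nat.card H)
    (hsq : ¬ p ^ 2 ∣ Nat.card H)
    (hne : ∃ x ∈ H, ∃ y ∈ H, x ^ p = 1 ∧ y ^ p = 1 ∧ x * y ≠ y * x) :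
    Nonempty (H ≃* PSL2(ZMod p)) ∨ PowConj p H := by
  classical
  letI := ZMod.algebra k p
  let π : SL2(k) →* PSL2(k) := QuotientGroup.mk' (Subgroup.center SL2(k))
  have hcenter : ∀ c ∈ Subgroup.center SL2(k), c ^ 2 = 1 := by
    intro c hc
    rw [Matrix.SpecialLinearGroup.mem_center_iff] at hc
    obtain ⟨r, hr, hc⟩ := hc
    rw [Fintype.card_fin] at hr
    refine Subtype.ext ?_
    rw [Matrix.SpecialLinearGroup.coe_pow, ← hc, ← map_pow, hr, map_one]
    rfl
  haveI : NeZero (max (Fintype.card (Fin 2)) 1) := ⟨by simp⟩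
  haveI : Finite (Subgroup.center SL2(k)) :=
    Finite.of_equiv _ (Matrix.SpecialLinearGroup.center_equiv_rootsOfUnity).toEquiv.symm
  haveI hfin : Finite (H.comap π) := by
    have hset : ((H.comap π : Subgroup SL2(k)) : Set SL2(k)).Finite := by
      rw [Subgroup.coe_comap]
      refine Set.Finite.preimage' (Set.toFinite (H : Set PSL2(k))) fun b _ => ?_
      obtain ⟨a, rfl⟩ := QuotientGroup.mk'_surjective (Subgroup.center SL2(k)) b
      refine ((Set.finite_range fun c : Subgroup.center SL2(k) => a * (c : SL2(k))).subset ?_)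
      intro x hx
      exact ⟨⟨a⁻¹ * x, QuotientGroup.eq.mp (Set.mem_singleton_iff.mp hx).symm⟩, mul_inv_cancel_left a x⟩
    exact hset.to_subtype
  have hlift : ∀ h ∈ H, h ^ p = 1 → ∃ x ∈ H.comap π, x ^ p = 1 ∧ π x = h := by
    intro h hh hhp
    obtain ⟨x, rfl⟩ := QuotientGroup.mk'_surjective (Subgroup.center SL2(k)) h
    refine ⟨x ^ (p + 1), Subgroup.pow_mem _ hh _, ?_, ?_⟩
    · obtain ⟨c, hc⟩ : Odd p := hp.out.odd_of_ne_two (by omega)
      have hxc : x ^ p ∈ Subgroup.center SL2(k) := (QuotientGroup.eq_one_iff _).mp hhp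
      rw [← pow_mul, mul_comm, pow_mul, show p + 1 = 2 * (c + 1) by omega, pow_mul, hcenter _ hxc, one_pow]
    · rw [map_pow, pow_succ, hhp, one_mul]
  obtain ⟨x, hx, y, hy, hxp, hyp, hxy⟩ := hne
  obtain ⟨x', hx', hx'p, rfl⟩ := hlift x hx hxp
  obtain ⟨y', hy', hy'p, rfl⟩ := hlift y hy hyp
  obtain ⟨M, hM, hstd⟩ := Fusion.Dickson.exists_containsStd p (by omega) (H.comap π)
    ⟨x', hx', y', hy', hx'p, hy'p, fun h => hxy (by rw [← map_mul, h, map_mul])⟩
  let φ := Fusion.Dickson.conjEquiv M hM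
  let H' : Subgroup SL2(k) := (H.comap π).comap φ.toMonoidHom
  haveI : Finite H' := Finite.of_injective (fun h : H' => (⟨φ h.1, h.2⟩ : H.comap π))
    fun a b hab => Subtype.ext (φ.injective (congrArg Subtype.val hab))
  -- integrality of the entries
  have htrace : ∀ g ∈ H', IsIntegral (ZMod p) (g.1 0 0 + g.1 1 1) := by
    intro g hg
    obtain ⟨o, ho, hgo⟩ := (isOfFinOrder_of_finite (⟨g, hg⟩ : H')).exists_pow_eq_one
    have hgo' : g.1 ^ o = 1 := by
      have := congrArg (fun h : H' => h.1.1) hgo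
      simpa using this
    obtain ⟨lam, hlam⟩ := IsAlgClosed.exists_root g.1.charpoly
      (by rw [Matrix.charpoly_degree_eq_dim, Fintype.card_fin]; norm_num)
    have hspec : lam ∈ spectrum k g.1 := Matrix.mem_spectrum_iff_isRoot_charpoly.mpr hlam
    have hpow := spectrum.pow_mem_pow (𝕜 := k) g.1 o hspec
    rw [hgo', spectrum.one_eq, Set.mem_singleton_iff] at hpow
    have hint : IsIntegral (ZMod p) lam := IsIntegral.of_pow ho (by rw [hpow]; exact isIntegral_one)
    rw [Matrix.charpoly_fin_two, Polynomial.IsRoot, Matrix.trace_fin_two, g.2] at hlam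
    simp at hlam
    have hlam0 : lam ≠ 0 := fun h => by rw [h, zero_pow ho.ne'] at hpow; exact zero_ne_one hpow
    rw [show g.1 0 0 + g.1 1 1 = lam + lam⁻¹ by field_simp; linear_combination -hlam]
    exact hint.add hint.inv
  have hstd' : ∀ g, Fusion.Dickson.stdMap p g ∈ H' := hstd
  have hu : Fusion.Dickson.upU (1 : k) ∈ H' := by
    have h := hstd' (Fusion.Dickson.upU 1)
    rwa [show Fusion.Dickson.stdMap p (Fusion.Dickson.upU (1 : ZMod p)) = Fusion.Dickson.upU (1 : k) from
      Subtype.ext (Matrix.ext fun i j => by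
        fin_cases i <;> fin_cases j <;> first | exact map_one (ZMod.castHom (dvd_refl p) k) | exact map_zero (ZMod.castHom (dvd_refl p) k))] at h
  have hl : Fusion.Dickson.lowL (1 : k) ∈ H' := by
    have h := hstd' (Fusion.Dickson.lowL 1)
    rwa [show Fusion.Dickson.stdMap p (Fusion.Dickson.lowL (1 : ZMod p)) = Fusion.Dickson.lowL (1 : k) from
      Subtype.ext (Matrix.ext fun i j => by
        fin_cases i <;> fin_cases j <;> first | exact map_one (ZMod.castHom (dvd_refl p) k) | exact map_zero (ZMod.castHom (dvd_refl p) k))] at h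
  have hint : ∀ g ∈ H', ∀ i j, IsIntegral (ZMod p) (g.1 i j) := by
    intro g hg
    have t0 := htrace g hg
    have t1 := htrace _ (H'.mul_mem hg hu)
    have t2 := htrace _ (H'.mul_mem hg hl)
    have t3 := htrace _ (H'.mul_mem (H'.mul_mem hg hu) hl)
    have c1 : (g * Fusion.Dickson.upU (1 : k)).1 0 0 + (g * Fusion.Dickson.upU (1 : k)).1 1 1 =
        g.1 0 0 + g.1 1 0 + g.1 1 1 := by
      show ((g.1 : Matrix (Fin 2) (Fin 2) k) * (!![1, 1; 0, 1] : Matrix (Fin 2) (Fin 2) k)) 0 0 + ((g.1 : Matrix (Fin 2) (Fin 2) k) * (!![1, 1; 0, 1] : Matrix (Fin 2) (Fin 2) k)) 1 1 = _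
      simp [Matrix.mul_apply, Fin.sum_univ_two]
      ring
    have c2 : (g * Fusion.Dickson.lowL (1 : k)).1 0 0 + (g * Fusion.Dickson.lowL (1 : k)).1 1 1 =
        g.1 0 0 + g.1 0 1 + g.1 1 1 := by
      show ((g.1 : Matrix (Fin 2) (Fin 2) k) * (!![1, 0; 1, 1] : Matrix (Fin 2) (Fin 2) k)) 0 0 + ((g.1 : Matrix (Fin 2) (Fin 2) k) * (!![1, 0; 1, 1] : Matrix (Fin 2) (Fin 2) k)) 1 1 = _
      simp [Matrix.mul_apply, Fin.sum_univ_two]
    have c3 : (g * Fusion.Dickson.upU (1 : k) * Fusion.Dickson.lowL (1 : k)).1 0 0 +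
        (g * Fusion.Dickson.upU (1 : k) * Fusion.Dickson.lowL (1 : k)).1 1 1 =
        2 * g.1 0 0 + g.1 0 1 + g.1 1 0 + g.1 1 1 := by
      show ((g.1 : Matrix (Fin 2) (Fin 2) k) * (!![1, 1; 0, 1] : Matrix (Fin 2) (Fin 2) k) * (!![1, 0; 1, 1] : Matrix (Fin 2) (Fin 2) k)) 0 0 + ((g.1 : Matrix (Fin 2) (Fin 2) k) * (!![1, 1; 0, 1] : Matrix (Fin 2) (Fin 2) k) * (!![1, 0; 1, 1] : Matrix (Fin 2) (Fin 2) k)) 1 1 = _
      simp [Matrix.mul_apply, Fin.sum_univ_two]
      ring
    rw [c1] at t1
    rw [c2] at t2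
    rw [c3] at t3
    have e10 : IsIntegral (ZMod p) (g.1 1 0) := by
      have := t1.sub t0
      ring_nf at this
      exact this
    have e01 : IsIntegral (ZMod p) (g.1 0 1) := by
      have := t2.sub t0
      ring_nf at this
      exact this
    have e00 : IsIntegral (ZMod p) (g.1 0 0) := by
      have := ((t3.sub t0).sub e10).sub e01
      ring_nf at this
      exact this
    have e11 : IsIntegral (ZMod p) (g.1 1 1) := by
      have := t0.sub e00
      ring_nf at this
      exact this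
    intro i j
    fin_cases i <;> fin_cases j
    exacts [e00, e01, e10, e11]
  -- the finite field
  let S : Set k := Set.range fun t : H' × Fin 2 × Fin 2 => t.1.1.1 t.2.1 t.2.2
  haveI : Finite S := (Set.finite_range _).to_subtype
  let F := IntermediateField.adjoin (ZMod p) S
  haveI : FiniteDimensional (ZMod p) F := IntermediateField.finiteDimensional_adjoin fun x hx => by
    obtain ⟨⟨g, i, j⟩, rfl⟩ := hx
    exact hint g.1 g.2 i j
  haveI : Finite F := Module.finite_of_finite (ZMod p)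
  haveI : Fintype F := Fintype.ofFinite F
  haveI : CharP F p := charP_of_injective_algebraMap (algebraMap (ZMod p) F).injective p
  let ι : SL2(F) →* SL2(k) := Matrix.SpecialLinearGroup.map (algebraMap F k)
  have hκ : ∀ s : SL2(F), π (φ (ι s)) = 1 ↔ s ∈ Subgroup.center SL2(F) := by
    intro s
    show ((φ (ι s) : SL2(k)) : SL2(k) ⧸ Subgroup.center SL2(k)) = 1 ↔ _
    rw [QuotientGroup.eq_one_iff]
    have hφc : φ (ι s) ∈ Subgroup.center SL2(k) ↔ ι s ∈ Subgroup.center SL2(k) := by
      simp only [Subgroup.mem_center_iff]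
      constructor
      · intro h g; exact φ.injective (by rw [map_mul, map_mul]; exact h (φ g))
      · intro h g
        obtain ⟨g, rfl⟩ := φ.surjective g
        rw [← map_mul, ← map_mul, h g]
    rw [hφc, Matrix.SpecialLinearGroup.mem_center_iff, Matrix.SpecialLinearGroup.mem_center_iff,
      Fintype.card_fin]
    have hinj : Function.Injective (algebraMap F k) := (algebraMap F k).injective
    constructor
    · rintro ⟨r, hr, hrs⟩
      have e00 := congrFun (congrFun hrs 0) 0
      have e01 := congrFun (congrFun hrs 0) 1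
      have e10 := congrFun (congrFun hrs 1) 0
      have e11 := congrFun (congrFun hrs 1) 1
      simp [ι] at e00 e01 e10 e11
      refine ⟨s.1 0 0, hinj ?_, ?_⟩
      · rw [map_pow, map_one]
        exact (by rw [← hr, e00]; rfl)
      · ext i j
        fin_cases i <;> fin_cases j <;> simp
        · exact e01
        · exact e10
        · exact hinj (e00.symm.trans e11)
    · rintro ⟨r, hr, hrs⟩
      refine ⟨algebraMap F k r, by rw [← map_pow, hr, map_one], ?_⟩
      rw [show (ι s).1 = (algebraMap F k).mapMatrix s.1 from rfl, ← hrs]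
      ext i j
      fin_cases i <;> fin_cases j <;> simp
  let ψ : PSL2(F) →* PSL2(k) := QuotientGroup.lift _ ((π.comp φ.toMonoidHom).comp ι)
    fun s hs => (hκ s).mpr hs
  have hψ : Function.Injective ψ := by
    rw [injective_iff_map_eq_one]
    intro a ha
    induction a using QuotientGroup.induction_on with
    | H s => exact (QuotientGroup.eq_one_iff s).mpr ((hκ s).mp ha)
  let H0 : Subgroup PSL2(F) := H.comap ψ
  have hmap : H0.map ψ = H := by
    refine le_antisymm (Subgroup.map_comap_le _ _) fun h hh => ?_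
    obtain ⟨a, rfl⟩ := QuotientGroup.mk'_surjective (Subgroup.center SL2(k)) h
    obtain ⟨g, hg⟩ := φ.surjective a
    have hg' : g ∈ H' := by show π (φ g) ∈ H; rw [hg]; exact hh
    let s : SL2(F) := ⟨Matrix.of fun i j => ⟨g.1 i j, IntermediateField.subset_adjoin _ _ ⟨(⟨g, hg'⟩, i, j), rfl⟩⟩, by
      apply (algebraMap F k).injective
      rw [RingHom.map_det, map_one]
      exact g.2⟩
    have hιs : ι s = g := Subtype.ext (Matrix.ext fun i j => rfl)
    refine ⟨QuotientGroup.mk' _ s, ?_, ?_⟩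
    · show π (φ (ι s)) ∈ H
      rw [hιs, hg]; exact hh
    · show π (φ (ι s)) = _
      rw [hιs, hg]
  let e : H0 ≃* H := (H0.equivMapOfInjective ψ hψ).trans (MulEquiv.subgroupCongr hmap)
  have hH0 : Nat.card H0 = Nat.card H := Nat.card_congr e.toEquiv
  have hpre : ∀ h ∈ H, ∃ a ∈ H0, ψ a = h := fun h hh => by rwa [← hmap] at hh
  obtain ⟨a, ha, hax⟩ := hpre _ hx
  obtain ⟨b, hb, hby⟩ := hpre _ hy
  rcases classify_finite hp5 H0 (hH0 ▸ hdvd) (hH0 ▸ hsq)
    ⟨a, ha, b, hb, hψ (by rw [map_pow, hax, hxp, map_one]), hψ (by rw [map_pow, hby, hyp, map_one]),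
      fun h => hxy (by rw [← hax, ← hby, ← map_mul, h, map_mul])⟩
    (fun g => by
      show π (φ (ι (Matrix.SpecialLinearGroup.map (ZMod.castHom dvd_rfl F) g))) ∈ H
      rw [show ι (Matrix.SpecialLinearGroup.map (ZMod.castHom dvd_rfl F) g) = Fusion.Dickson.stdMap p g from
        Subtype.ext (Matrix.ext fun i j =>
          DFunLike.congr_fun (Subsingleton.elim ((algebraMap F k).comp (ZMod.castHom dvd_rfl F))
            (ZMod.castHom dvd_rfl k)) _)]
      exact hstd g) with ⟨⟨f⟩⟩ | hpc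
  · exact Or.inl ⟨e.symm.trans f⟩
  · exact Or.inr (hpc.of_equiv e.symm)

end Cfsg.Agent.Char.HalfDegree
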