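import Mathlib

/-!
# The truncated exponential in characteristic `p`
-/

set_option autoImplicit false
set_option linter.unusedSectionVars false

namespace Cfsg.Agent.Char.HalfDegree

open Finset

variable {k : Type*} [Field k] {p : ℕ} [CharP k p] {A : Type*} [Ring A] [Algebra k A]

variable (k p) in
/-- `∑ i < p, X ^ i / i!`. -/
noncomputable def texp (X : A) : A := ∑ i ∈ range p, ((Nat.factorial i : k)⁻¹) • X ^ i

theorem factorial_ne_zero (hp : p.Prime) {i : ℕ} (hi : i < p) : (Nat.factorial i : k) ≠ 0 := by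
  rw [Ne, CharP.cast_eq_zero_iff k p, hp.dvd_factorial]
  omega

theorem texp_map {B : Type*} [Ring B] [Algebra k B] (f : A →ₐ[k] B) (X : A) :
    f (texp k p X) = texp k p (f X) := by
  simp [texp, map_sum, map_smul, map_pow]

theorem texp_zero (hp : p.Prime) : texp k p (0 : A) = 1 := by
  rw [texp, Finset.sum_eq_single 0]
  · simp
  · intro i _ hi; simp [zero_pow hi]
  · exact fun h => absurd (mem_range.mpr hp.pos) h

/-- The truncated exponential is multiplicative on commuting nilpotent elements. -/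
theorem texp_add (hp : p.Prime) {X Y : A} (hXY : Commute X Y)
    (h : ∀ i j, p ≤ i + j → X ^ i * Y ^ j = 0) :
    texp k p (X + Y) = texp k p X * texp k p Y := by
  obtain ⟨T, hT⟩ : ∃ T : ℕ × ℕ → A, T = fun m =>
      ((Nat.factorial m.1 : k)⁻¹ * (Nat.factorial m.2 : k)⁻¹) • (X ^ m.1 * Y ^ m.2) := ⟨_, rfl⟩
  have hl : texp k p (X + Y) = ∑ n ∈ range p, ∑ m ∈ antidiagonal n, T m := by
    refine sum_congr rfl fun n hn => ?_
    rw [mem_range] at hn
    rw [hXY.add_pow', smul_sum]
    refine sum_congr rfl fun m hm => ?_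
    rw [HasAntidiagonal.mem_antidiagonal] at hm
    rw [hT, ← Nat.cast_smul_eq_nsmul k, smul_smul]
    congr 1
    subst hm
    rw [← Nat.add_choose_mul_factorial_mul_factorial m.1 m.2, Nat.choose_symm_add]
    have h1 : ((m.1 + m.2).choose m.2 : k) ≠ 0 := by
      rw [Ne, CharP.cast_eq_zero_iff k p]
      exact fun hd => ((hp.dvd_factorial (n := m.1 + m.2)).not.mpr (by omega)) (hd.trans (Dvd.intro _
        (by rw [← mul_assoc, Nat.add_choose_mul_factorial_mul_factorial])))
    have h2 := factorial_ne_zero (k := k) hp (show m.1 < p by omega)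
    have h3 := factorial_ne_zero (k := k) hp (show m.2 < p by omega)
    push_cast
    field_simp
  have hr : texp k p X * texp k p Y = ∑ m ∈ range p ×ˢ range p, T m := by
    rw [texp, texp, sum_mul_sum, sum_product]
    refine sum_congr rfl fun i _ => sum_congr rfl fun j _ => ?_
    rw [hT, smul_mul_smul_comm]
  rw [hl, hr, ← sum_biUnion (fun a _ b _ hab => Finset.disjoint_left.mpr fun m h1 h2 =>
    hab ((HasAntidiagonal.mem_antidiagonal.mp h1).symm.trans (HasAntidiagonal.mem_antidiagonal.mp h2)))]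
  refine sum_subset (fun m hm => ?_) fun m hm hnm => ?_
  · simp only [mem_biUnion, mem_range, HasAntidiagonal.mem_antidiagonal] at hm
    obtain ⟨n, hn, he⟩ := hm
    simp only [mem_product, mem_range]
    omega
  · simp only [mem_biUnion, mem_range, HasAntidiagonal.mem_antidiagonal, not_exists, not_and] at hnm
    rw [hT]
    simp only
    rw [h _ _ (Nat.le_of_not_lt fun hlt => hnm _ hlt rfl), smul_zero]

theorem pow_eq_zero_of_le {u : A} {n i : ℕ} (hu : u ^ n = 0) (h : n ≤ i) : u ^ i = 0 := by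
  obtain ⟨m, rfl⟩ := Nat.exists_eq_add_of_le h
  rw [pow_add, hu, zero_mul]

theorem texp_natCast_mul (hp : p.Prime) {L : A} {n : ℕ} (hn : n ≤ p) (hL : L ^ n = 0) :
    ∀ a : ℕ, texp k p ((a : k) • L) = texp k p L ^ a
  | 0 => by rw [Nat.cast_zero, zero_smul, texp_zero hp, pow_zero]
  | a + 1 => by
    rw [pow_succ, ← texp_natCast_mul hp hn hL a, Nat.cast_add, Nat.cast_one, add_smul, one_smul,
      texp_add hp ((Commute.refl L).smul_left _)]
    intro i j hij
    rw [smul_pow, smul_mul_assoc, ← pow_add, pow_eq_zero_of_le hL (by omega), smul_zero]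

theorem texp_eq_one_add {R : Type*} [CommRing R] [Algebra k R] (hp : p.Prime) (δ : R) :
    ∃ W, texp k p δ = 1 + δ + δ ^ 2 * W := by
  refine ⟨∑ i ∈ range (p - 2), ((Nat.factorial (i + 2) : k)⁻¹) • δ ^ i, ?_⟩
  obtain ⟨m, rfl⟩ : ∃ m, p = m + 2 := ⟨p - 2, by have := hp.two_le; omega⟩
  rw [texp, sum_range_succ' _ (m + 1), sum_range_succ' _ m, Finset.mul_sum]
  simp [← pow_add, Nat.add_comm 2, add_comm, add_left_comm]
  abel

/-- Logarithms: a unipotent element is the exponential of a multiple of `u`. -/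
theorem exists_log {R : Type*} [CommRing R] [Algebra k R] (hp : p.Prime) {u : R} {n : ℕ}
    (hn : n ≤ p) (hu : u ^ n = 0) : ∃ L, u ∣ L ∧ texp k p L = 1 + u := by
  suffices h : ∀ j, ∃ L, u ∣ L ∧ u ^ (j + 1) ∣ (1 + u) - texp k p L by
    obtain ⟨L, hL, h⟩ := h n
    refine ⟨L, hL, ?_⟩
    rw [pow_succ, hu, zero_mul, zero_dvd_iff, sub_eq_zero] at h
    exact h.symm
  intro j
  induction j with
  | zero => exact ⟨0, dvd_zero u, by rw [texp_zero hp, add_sub_cancel_left, zero_add, pow_one]⟩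
  | succ j ih =>
    obtain ⟨L, ⟨L', rfl⟩, D, hD⟩ := ih
    obtain ⟨δ, hδ⟩ : ∃ δ, δ = (1 + u) - texp k p (u * L') := ⟨_, rfl⟩
    have hδu : u ∣ δ := hδ ▸ hD ▸ ((dvd_pow_self u (by omega)).mul_right D)
    refine ⟨u * L' + δ, dvd_add (dvd_mul_right u L') hδu, ?_⟩
    obtain ⟨δ', rfl⟩ := hδu
    rw [texp_add hp (Commute.all _ _) fun i j hij => by
      rw [mul_pow, mul_pow, show u ^ i * L' ^ i * (u ^ j * δ' ^ j) = u ^ (i + j) * (L' ^ i * δ' ^ j) by
        rw [pow_add]; ring, pow_eq_zero_of_le hu (by omega), zero_mul]]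
    obtain ⟨W, hW⟩ := texp_eq_one_add (k := k) (p := p) hp (u * δ')
    obtain ⟨V, hV⟩ := texp_eq_one_add (k := k) (p := p) hp (u * L')
    rw [hW]
    have e1 : (1 + u) - texp k p (u * L') * (1 + u * δ' + (u * δ') ^ 2 * W)
        = (u * δ') * (1 - texp k p (u * L') * (1 + u * δ' * W)) := by
      linear_combination -hδ
    rw [e1, pow_succ]
    refine mul_dvd_mul ⟨D, hδ.trans hD⟩ ?_
    rw [hV]
    exact ⟨-(δ' * W + (L' + u * L' ^ 2 * V) * (1 + u * δ' * W)), by ring⟩

/-- The truncated exponential is injective on multiples of a nilpotent element. -/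
theorem texp_injective {R : Type*} [CommRing R] [Algebra k R] (hp : p.Prime) {u : R} {n : ℕ}
    (hn : n ≤ p) (hu : u ^ n = 0) {X Y : R} (hX : u ∣ X) (hY : u ∣ Y)
    (h : texp k p X = texp k p Y) : X = Y := by
  obtain ⟨X', rfl⟩ := hX
  obtain ⟨Y', rfl⟩ := hY
  obtain ⟨W, hW⟩ := texp_eq_one_add (k := k) (p := p) hp (u * (X' - Y'))
  obtain ⟨V, hV⟩ := texp_eq_one_add (k := k) (p := p) hp (u * Y')
  have h1 := texp_add (k := k) hp (Commute.all (u * Y') (u * (X' - Y'))) fun i j hij => by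
      rw [mul_pow, mul_pow, show u ^ i * Y' ^ i * (u ^ j * (X' - Y') ^ j) =
        u ^ (i + j) * (Y' ^ i * (X' - Y') ^ j) by rw [pow_add]; ring,
        pow_eq_zero_of_le hu (by omega), zero_mul]
  rw [show u * Y' + u * (X' - Y') = u * X' by ring, h, hW] at h1
  have h2 : (1 + u * (Y' + u * Y' ^ 2 * V)) * (1 + u * ((X' - Y') * W)) * (u * (X' - Y')) = 0 := by
    rw [hV] at h1
    linear_combination -h1
  have hnil : ∀ w : R, IsUnit (1 + u * w) := fun w =>
    IsNilpotent.isUnit_one_add ⟨n, by rw [mul_pow, hu, zero_mul]⟩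
  have h3 := ((hnil _).mul (hnil _)).mul_right_eq_zero.mp h2
  linear_combination h3

end Cfsg.Agent.Char.HalfDegree
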