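import Mathlib

/-!
# Three-dimensional orthogonal groups as projective linear groups

A finite group acting on a three-dimensional space with a symmetric form, over an algebraically
closed field, maps to the projective special linear group of degree two.
-/

set_option autoImplicit false

namespace Cfsg.Agent.Char.HalfDegree

open Matrix

variable {k : Type*} [Field k]

local notation "SL2" => Matrix.SpecialLinearGroup (Fin 2) k
local notation "M3" => Matrix (Fin 3) (Fin 3) k

variable (k) in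
/-- The Gram matrix of the trace form on traceless `2 × 2` matrices. -/
def gram : M3 := !![2, 0, 0; 0, 0, 1; 0, 1, 0]

/-- The adjoint action of a `2 × 2` matrix on the traceless matrices. -/
def adMat (g : Matrix (Fin 2) (Fin 2) k) : M3 :=
  !![g 0 0 * g 1 1 + g 0 1 * g 1 0, -(g 0 0 * g 1 0), g 0 1 * g 1 1;
    -(2 * (g 0 0 * g 0 1)), g 0 0 ^ 2, -g 0 1 ^ 2;
    2 * (g 1 0 * g 1 1), -g 1 0 ^ 2, g 1 1 ^ 2]

theorem adMat_one : adMat (1 : Matrix (Fin 2) (Fin 2) k) = 1 := by
  ext i j; fin_cases i <;> fin_cases j <;> simp [adMat]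

theorem adMat_mul (a b : Matrix (Fin 2) (Fin 2) k) : adMat (a * b) = adMat a * adMat b := by
  ext i j
  fin_cases i <;> fin_cases j <;>
    simp [adMat, Matrix.mul_apply, Fin.sum_univ_two, Fin.sum_univ_three] <;> ring

/-- The adjoint representation. -/
def adHom : SL2 →* M3 where
  toFun g := adMat g.1
  map_one' := adMat_one
  map_mul' a b := adMat_mul a.1 b.1

theorem adHom_apply (g : SL2) : adHom g = adMat g.1 := rfl

theorem adHom_gram (g : SL2) : (adHom g)ᵀ * gram k * adHom g = gram k := by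
  have hd : g.1 0 0 * g.1 1 1 - g.1 0 1 * g.1 1 0 = 1 := by
    rw [← Matrix.det_fin_two]; exact g.2
  rw [adHom_apply]
  ext i j
  fin_cases i <;> fin_cases j <;>
    simp [adMat, gram, Matrix.mul_apply, Fin.sum_univ_three] <;>
    first
      | linear_combination (2 : k) * (g.1 0 0 * g.1 1 1 - g.1 0 1 * g.1 1 0 + 1) * hd
      | linear_combination (g.1 0 0 * g.1 1 1 - g.1 0 1 * g.1 1 0 + 1) * hd
      | linear_combination (0 : k) * hd

theorem adHom_det (g : SL2) : (adHom g).det = 1 := by
  have hd : g.1 0 0 * g.1 1 1 - g.1 0 1 * g.1 1 0 = 1 := by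
    rw [← Matrix.det_fin_two]; exact g.2
  rw [adHom_apply, Matrix.det_fin_three]
  simp [adMat]
  linear_combination ((g.1 0 0 * g.1 1 1 - g.1 0 1 * g.1 1 0) ^ 2
    + (g.1 0 0 * g.1 1 1 - g.1 0 1 * g.1 1 0) + 1) * hd

theorem adHom_eq_one (h2 : (2 : k) ≠ 0) {g : SL2} :
    adHom g = 1 ↔ g ∈ Subgroup.center SL2 := by
  have hd : g.1 0 0 * g.1 1 1 - g.1 0 1 * g.1 1 0 = 1 := by
    rw [← Matrix.det_fin_two]; exact g.2
  rw [Matrix.SpecialLinearGroup.mem_center_iff, adHom_apply]
  constructor
  · intro h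
    have e11 := congrFun (congrFun h 1) 1
    have e12 := congrFun (congrFun h 1) 2
    have e21 := congrFun (congrFun h 2) 1
    have e00 := congrFun (congrFun h 0) 0
    simp [adMat] at e11 e12 e21 e00
    replace e11 : g.1 0 0 ^ 2 = 1 := sq_eq_one_iff.mpr e11
    have had : g.1 0 0 = g.1 1 1 := by
      have : g.1 0 0 * g.1 1 1 = 1 := by simpa [e12, e21] using e00
      linear_combination g.1 1 1 * e11 - g.1 0 0 * this
    refine ⟨g.1 0 0, by rw [Fintype.card_fin]; exact e11, ?_⟩
    ext i j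
    fin_cases i <;> fin_cases j <;> simp [e12, e21, had]
  · rintro ⟨r, hr, hg⟩
    rw [Fintype.card_fin] at hr
    rw [← hg]
    ext i j
    fin_cases i <;> fin_cases j <;> simp [adMat, hr, ← pow_two, -sq_eq_one_iff]

/-- Every element of the special orthogonal group is an adjoint map. -/
theorem adHom_surjective [IsAlgClosed k] (h2 : (2 : k) ≠ 0) {M : M3}
    (hM : Mᵀ * gram k * M = gram k) (hdet : M.det = 1) : ∃ g, adHom g = M := by
  have ent : ∀ M : M3, Mᵀ * gram k * M = gram k → ∀ i j,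
      2 * M 0 i * M 0 j + M 1 i * M 2 j + M 2 i * M 1 j = gram k i j := by
    intro M hM i j
    have h := congrFun (congrFun hM i) j
    simp [Matrix.mul_apply, gram, Fin.sum_univ_three] at h
    simp [gram]
    linear_combination h
  -- left translation
  have step : ∀ g, ∀ M : M3, Mᵀ * gram k * M = gram k → M.det = 1 →
      (adHom g * M)ᵀ * gram k * (adHom g * M) = gram k ∧ (adHom g * M).det = 1 ∧
        ((∃ h, adHom h = adHom g * M) → ∃ h, adHom h = M) := by
    intro g M hM hdet
    refine ⟨?_, by rw [Matrix.det_mul, adHom_det, hdet, mul_one], ?_⟩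
    · rw [Matrix.transpose_mul, show Mᵀ * (adHom g)ᵀ * gram k * (adHom g * M) =
        Mᵀ * ((adHom g)ᵀ * gram k * adHom g) * M by simp only [mul_assoc], adHom_gram, hM]
    · rintro ⟨h, hh⟩
      refine ⟨g⁻¹ * h, ?_⟩
      rw [map_mul, hh, ← mul_assoc, ← map_mul, inv_mul_cancel, map_one, one_mul]
  -- a map fixing the second basis vector
  have fixed : ∀ M : M3, Mᵀ * gram k * M = gram k → M.det = 1 →
      M 0 1 = 0 → M 1 1 = 1 → M 2 1 = 0 → ∃ h, adHom h = M := by
    intro M hM hdet e0 e1 e2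
    have h12 := ent M hM 1 2
    simp [e0, e1, e2, gram] at h12
    obtain ⟨g, hg⟩ : ∃ g : SL2, g.1 = !![1, -M 0 2; 0, 1] :=
      ⟨⟨!![1, -M 0 2; 0, 1], by simp [Matrix.det_fin_two]⟩, rfl⟩
    obtain ⟨hN, hNd, hback⟩ := step g M hM hdet
    refine hback ⟨1, ?_⟩
    rw [map_one]
    obtain ⟨N, hNdef⟩ : ∃ N, N = adHom g * M := ⟨_, rfl⟩
    rw [← hNdef] at hN hNd ⊢
    have n01 : N 0 1 = 0 := by
      rw [hNdef, Matrix.mul_apply]; simp [adHom_apply, hg, adMat, Fin.sum_univ_three, e0, e1, e2]
    have n11 : N 1 1 = 1 := by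
      rw [hNdef, Matrix.mul_apply]; simp [adHom_apply, hg, adMat, Fin.sum_univ_three, e0, e1, e2]
    have n21 : N 2 1 = 0 := by
      rw [hNdef, Matrix.mul_apply]; simp [adHom_apply, hg, adMat, Fin.sum_univ_three, e0, e1, e2]
    have n02 : N 0 2 = 0 := by
      rw [hNdef, Matrix.mul_apply]; simp [adHom_apply, hg, adMat, Fin.sum_univ_three, h12]
    have n22 : N 2 2 = 1 := by
      rw [hNdef, Matrix.mul_apply]; simp [adHom_apply, hg, adMat, Fin.sum_univ_three, h12]
    have n12 : N 1 2 = 0 := by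
      have := ent N hN 2 2
      simp [n02, n22, gram] at this
      exact (mul_eq_zero.mp (show (2 : k) * N 1 2 = 0 by linear_combination this)).resolve_left h2
    have n20 : N 2 0 = 0 := by
      have := ent N hN 1 0
      simp [n01, n11, n21, gram] at this
      exact this
    have n10 : N 1 0 = 0 := by
      have := ent N hN 2 0
      simp [n02, n12, n22, gram] at this
      exact this
    have n00 : N 0 0 = 1 := by
      rw [Matrix.det_fin_three] at hNd
      simpa [n01, n11, n21, n02, n12, n22, n10, n20] using hNd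
    ext i j
    fin_cases i <;> fin_cases j <;>
      simp [n00, n10, n20, n01, n11, n21, n02, n12, n22]
  -- reduce to the fixed case
  have h11 := ent M hM 1 1
  simp [gram] at h11
  have hiso : M 0 1 ^ 2 + M 1 1 * M 2 1 = 0 :=
    (mul_eq_zero.mp (show (2 : k) * (M 0 1 ^ 2 + M 1 1 * M 2 1) = 0 by
      linear_combination h11)).resolve_left h2
  obtain ⟨g, hg0, hg1, hg2⟩ : ∃ g : SL2,
      -(g.1 0 0 * g.1 1 0) = M 0 1 ∧ g.1 0 0 ^ 2 = M 1 1 ∧ -g.1 1 0 ^ 2 = M 2 1 := by
    obtain ⟨x, hx⟩ := IsAlgClosed.exists_pow_nat_eq (M 1 1) (n := 2) (by norm_num)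
    rcases eq_or_ne x 0 with rfl | hx0
    · have hb : M 1 1 = 0 := by rw [← hx]; simp
      have ha : M 0 1 = 0 := by
        rw [hb, zero_mul, add_zero] at hiso
        exact pow_eq_zero_iff (two_ne_zero) |>.mp hiso
      obtain ⟨z, hz⟩ := IsAlgClosed.exists_pow_nat_eq (-M 2 1) (n := 2) (by norm_num)
      rcases eq_or_ne z 0 with rfl | hz0
      · exfalso
        have hc : M 2 1 = 0 := by simpa using hz.symm
        rw [Matrix.det_fin_three, ha, hb, hc] at hdet
        simp at hdet
      · exact ⟨⟨!![0, -z⁻¹; z, 0], by simp [Matrix.det_fin_two, hz0]⟩,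
          by simp [ha], by simp [hb], by simp [hz]⟩
    · refine ⟨⟨!![x, 0; -(M 0 1 / x), x⁻¹], by simp [Matrix.det_fin_two, hx0]⟩, ?_, by simp [hx], ?_⟩
      · simp; field_simp
      · simp
        field_simp
        linear_combination -hiso - M 2 1 * hx
  obtain ⟨hN, hNd, hback⟩ := step g⁻¹ M hM hdet
  have hd : g.1 0 0 * g.1 1 1 - g.1 0 1 * g.1 1 0 = 1 := by
    rw [← Matrix.det_fin_two]; exact g.2
  refine hback (fixed _ hN hNd ?_ ?_ ?_) <;>
    simp [adHom_apply, Matrix.SpecialLinearGroup.coe_inv, Matrix.adjugate_fin_two, adMat,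
      Matrix.mul_apply, Fin.sum_univ_three, ← hg0, ← hg1, ← hg2]
  · ring
  · linear_combination (g.1 0 0 * g.1 1 1 - g.1 0 1 * g.1 1 0 + 1) * hd
  · ring

theorem det_sq_eq_one (h2 : (2 : k) ≠ 0) {M : M3} (hM : Mᵀ * gram k * M = gram k) :
    M.det * M.det = 1 := by
  have h := congrArg Matrix.det hM
  rw [Matrix.det_mul, Matrix.det_mul, Matrix.det_transpose] at h
  have hg : (gram k).det = -2 := by rw [Matrix.det_fin_three]; simp [gram]
  rw [hg] at h
  have : (2 : k) * (M.det * M.det - 1) = 0 := by linear_combination -h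
  exact sub_eq_zero.mp ((mul_eq_zero.mp this).resolve_left h2)

/-- A group of orthogonal `3 × 3` matrices maps to `PSL₂`. -/
theorem exists_psl_hom [IsAlgClosed k] (h2 : (2 : k) ≠ 0) {G : Type*} [Group G] (r : G →* M3)
    (hr : ∀ g, (r g)ᵀ * gram k * r g = gram k) :
    ∃ θ : G →* Matrix.ProjectiveSpecialLinearGroup (Fin 2) k,
      ∀ g, θ g = 1 → r g = (r g).det • (1 : M3) := by
  classical
  have hsq : ∀ g, (r g).det * (r g).det = 1 := fun g => det_sq_eq_one h2 (hr g)
  have hex : ∀ g, ∃ s : SL2, adHom s = (r g).det • r g := fun g => by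
    refine adHom_surjective h2 ?_ ?_
    · rw [Matrix.transpose_smul, Matrix.smul_mul, Matrix.smul_mul, Matrix.mul_smul, smul_smul,
        hsq, one_smul, hr]
    · rw [Matrix.det_smul, Fintype.card_fin]
      linear_combination ((r g).det * (r g).det + 1) * hsq g
  choose s hs using hex
  have key : ∀ a b : SL2, adHom a = adHom b →
      QuotientGroup.mk' (Subgroup.center SL2) a = QuotientGroup.mk' (Subgroup.center SL2) b := by
    intro a b hab
    rw [QuotientGroup.mk'_eq_mk']
    refine ⟨a⁻¹ * b, (adHom_eq_one h2).mp ?_, mul_inv_cancel_left a b⟩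
    rw [map_mul, ← hab, ← map_mul, inv_mul_cancel, map_one]
  refine ⟨MonoidHom.mk' (fun g => QuotientGroup.mk' (Subgroup.center SL2) (s g)) fun a b => ?_, fun g hg => ?_⟩
  · rw [← map_mul]
    refine key _ _ ?_
    rw [map_mul, hs, hs, hs, map_mul, Matrix.det_mul, smul_mul_smul_comm]
  · have h1 : s g ∈ Subgroup.center SL2 := (QuotientGroup.eq_one_iff _).mp hg
    rw [← adHom_eq_one h2, hs] at h1
    have := congrArg ((r g).det • ·) h1
    simpa [smul_smul, hsq] using this

end Cfsg.Agent.Char.HalfDegree
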