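import Cfsg.Agent.Lib.Char.HalfDegree.Triple

/-!
# An equivariant splitting of the top power of a nilpotent operator
-/

set_option autoImplicit false
set_option linter.unusedSectionVars false

namespace Cfsg.Agent.Char.HalfDegree

open Finset Module

variable {k : Type*} [Field k] {V : Type*} [AddCommGroup V] [Module k V] [FiniteDimensional k V]

theorem exists_splitting {L : Module.End k V} {d : ℕ} (hd : 0 < d) (hL : L ^ d = 0)
    (hL' : L ^ (d - 1) ≠ 0) {Q : Type*} [Group Q] [Fintype Q] (hQ : (Fintype.card Q : k) ≠ 0)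
    (τ : Q →* Module.End k V) (a : Q →* kˣ) (hτ : ∀ q, τ q * L = (a q : k) • (L * τ q)) :
    ∃ R : Module.End k V, R ≠ 0 ∧ Splitting L R d ∧
      ∀ q, τ q * R = ((a q : k) ^ (d - 1))⁻¹ • (R * τ q) := by
  classical
  have hpow : ∀ q m, ∀ x, τ q ((L ^ m) x) = (a q : k) ^ m • (L ^ m) (τ q x) := by
    intro q m
    induction m with
    | zero => intro x; simp
    | succ m ih =>
      intro x
      have h1 : ∀ y, τ q (L y) = (a q : k) • L (τ q y) := fun y => LinearMap.congr_fun (hτ q) y
      rw [pow_succ', Module.End.mul_apply, h1, ih, map_smul, smul_smul, Module.End.mul_apply,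
        pow_succ']
  have hinv : ∀ q x, τ q (τ q⁻¹ x) = x := fun q x => by
    rw [← Module.End.mul_apply, ← map_mul, mul_inv_cancel, map_one, Module.End.one_apply]
  -- an invariant complement of the kernel of the top power
  obtain ⟨K, hK⟩ : ∃ K, K = LinearMap.ker (L ^ (d - 1)) := ⟨_, rfl⟩
  have hKst : ∀ q, ∀ x ∈ K, τ q x ∈ K := by
    intro q x hx
    rw [hK, LinearMap.mem_ker] at hx ⊢
    have h := hpow q (d - 1) x
    rw [hx, map_zero] at h
    exact (smul_eq_zero.mp h.symm).resolve_left (pow_ne_zero _ (a q).ne_zero)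
  obtain ⟨pr0, hpr0⟩ := K.subtype.exists_leftInverse_of_injective K.ker_subtype
  let pr1 : Module.End k V := K.subtype ∘ₗ pr0
  have hpr1 : ∀ x ∈ K, pr1 x = x := fun x hx => congrArg Subtype.val (LinearMap.congr_fun hpr0 ⟨x, hx⟩)
  let pr : Module.End k V := (Fintype.card Q : k)⁻¹ • ∑ q, τ q * pr1 * τ q⁻¹
  have hprc : ∀ q, τ q * pr = pr * τ q := by
    intro h
    show τ h * ((Fintype.card Q : k)⁻¹ • _) = ((Fintype.card Q : k)⁻¹ • _) * τ h
    rw [mul_smul_comm, smul_mul_assoc, Finset.mul_sum, Finset.sum_mul]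
    congr 1
    refine Fintype.sum_equiv (Equiv.mulLeft h) _ _ fun q => ?_
    rw [Equiv.coe_mulLeft, mul_inv_rev, map_mul, map_mul]
    simp only [mul_assoc]
    rw [← map_mul τ h⁻¹ h, inv_mul_cancel, map_one, mul_one]
  have hprK : ∀ x ∈ K, pr x = x := by
    intro x hx
    simp only [pr, LinearMap.smul_apply, LinearMap.sum_apply, Module.End.mul_apply]
    rw [Finset.sum_congr rfl fun q _ => show τ q (pr1 (τ q⁻¹ x)) = x by
      rw [hpr1 _ (hKst _ _ hx), hinv], Finset.sum_const, Finset.card_univ,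
      ← Nat.cast_smul_eq_nsmul k, smul_smul, inv_mul_cancel₀ hQ, one_smul]
  have hprmem : ∀ x, pr x ∈ K := fun x => by
    simp only [pr, LinearMap.smul_apply, LinearMap.sum_apply, Module.End.mul_apply]
    exact K.smul_mem _ (Submodule.sum_mem _ fun q _ => hKst _ _ (Subtype.prop _))
  obtain ⟨T, hT⟩ : ∃ T, T = LinearMap.ker pr := ⟨_, rfl⟩
  have hTst : ∀ q, ∀ x ∈ T, τ q x ∈ T := by
    intro q x hx
    rw [hT, LinearMap.mem_ker] at hx ⊢
    rw [← Module.End.mul_apply, ← hprc, Module.End.mul_apply, hx, map_zero]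
  have hTK : ∀ x ∈ T, x ∈ K → x = 0 := fun x hx hxK => by
    rw [← hprK x hxK, LinearMap.mem_ker.mp (hT ▸ hx)]
  -- the coordinates
  let f : (Fin d → T) →ₗ[k] V := ∑ m : Fin d, (L ^ (m : ℕ)) ∘ₗ T.subtype ∘ₗ LinearMap.proj m
  have hf : Function.Injective f := by
    rw [← LinearMap.ker_eq_bot, LinearMap.ker_eq_bot']
    intro t ht
    suffices h : ∀ m (hm : m < d), t ⟨m, hm⟩ = 0 from funext fun m => h m.1 m.2
    intro m
    induction m using Nat.strong_induction_on with
    | _ m ih =>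
      intro hm
      have h := congrArg (L ^ (d - 1 - m)) ht
      rw [map_zero] at h
      simp only [f, LinearMap.sum_apply, LinearMap.comp_apply, LinearMap.proj_apply, map_sum,
        ← Module.End.mul_apply, ← pow_add, Submodule.subtype_apply] at h
      rw [Finset.sum_eq_single (⟨m, hm⟩ : Fin d)] at h
      · simp only at h
        rw [show d - 1 - m + m = d - 1 by omega] at h
        exact Subtype.ext (hTK _ (t _).2 (by rw [hK]; exact h))
      · intro b _ hb
        rcases Nat.lt_or_ge (b : ℕ) m with hlt | hge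
        · rw [ih _ hlt b.2]; simp
        · have hne : (b : ℕ) ≠ m := fun e => hb (Fin.ext e)
          obtain ⟨c, hc⟩ := Nat.exists_eq_add_of_le (show d ≤ d - 1 - m + b by omega)
          rw [hc, pow_add, hL, zero_mul, LinearMap.zero_apply]
      · simp
  obtain ⟨g, hg⟩ := f.exists_leftInverse_of_injective (LinearMap.ker_eq_bot.mpr hf)
  let R0 : Module.End k V := T.subtype ∘ₗ LinearMap.proj (⟨d - 1, by omega⟩ : Fin d) ∘ₗ g
  have hR0 : ∀ m, m < d → ∀ t ∈ T, R0 ((L ^ m) t) = if m = d - 1 then t else 0 := by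
    intro m hm t ht
    have e : f (Pi.single (⟨m, hm⟩ : Fin d) ⟨t, ht⟩) = (L ^ m) t := by
      simp only [f, LinearMap.sum_apply, LinearMap.comp_apply, LinearMap.proj_apply]
      rw [Finset.sum_eq_single (⟨m, hm⟩ : Fin d)]
      · simp
      · intro b _ hb; simp [Pi.single_eq_of_ne hb]
      · simp
    show ((g ((L ^ m) t) ⟨d - 1, _⟩ : T) : V) = _
    rw [← e, show g (f (Pi.single (⟨m, hm⟩ : Fin d) ⟨t, ht⟩)) = _ from LinearMap.congr_fun hg _]
    rcases eq_or_ne m (d - 1) with rfl | hne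
    · simp
    · rw [if_neg hne, LinearMap.id_apply, Pi.single_eq_of_ne (by simp only [ne_eq, Fin.mk.injEq]; omega)]
      simp
  let R : Module.End k V := (Fintype.card Q : k)⁻¹ • ∑ q, (a q : k) ^ (d - 1) • (τ q * R0 * τ q⁻¹)
  have hR : ∀ m, m < d → ∀ t ∈ T, R ((L ^ m) t) = if m = d - 1 then t else 0 := by
    intro m hm t ht
    simp only [R, LinearMap.smul_apply, LinearMap.sum_apply, Module.End.mul_apply]
    rw [Finset.sum_congr rfl fun q _ => show (a q : k) ^ (d - 1) • τ q (R0 (τ q⁻¹ ((L ^ m) t))) =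
        if m = d - 1 then t else 0 by
      rw [hpow, map_smul, map_smul, hR0 m hm _ (hTst _ _ ht), smul_smul]
      split_ifs with he
      · rw [hinv, he, ← mul_pow, ← Units.val_mul, ← map_mul, mul_inv_cancel, map_one, Units.val_one,
          one_pow, one_smul]
      · simp, Finset.sum_const, Finset.card_univ, ← Nat.cast_smul_eq_nsmul k, smul_smul,
      inv_mul_cancel₀ hQ, one_smul]
  have hRmem : ∀ x, R x ∈ T := fun x => by
    simp only [R, LinearMap.smul_apply, LinearMap.sum_apply, Module.End.mul_apply]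
    exact T.smul_mem _ (Submodule.sum_mem _ fun q _ => T.smul_mem _ (hTst _ _ (Subtype.prop _)))
  refine ⟨R, ?_, ⟨hL, fun m hm => ?_⟩, fun h => ?_⟩
  · obtain ⟨x, hx⟩ : ∃ x, (L ^ (d - 1)) x ≠ 0 := by
      by_contra hno
      push Not at hno
      exact hL' (LinearMap.ext fun x => hno x)
    intro h0
    have hsub : x - pr x ∈ T := by
      rw [hT, LinearMap.mem_ker, map_sub, hprK _ (hprmem x), sub_self]
    have h := hR (d - 1) (by omega) _ hsub
    rw [h0, if_pos rfl, LinearMap.zero_apply] at h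
    have hxK : x ∈ K := by rw [sub_eq_zero.mp h.symm]; exact hprmem x
    rw [hK] at hxK
    exact hx hxK
  · refine LinearMap.ext fun x => ?_
    rw [Module.End.mul_apply, Module.End.mul_apply, hR m hm _ (hRmem x)]
    split_ifs <;> rfl
  · show τ h * ((Fintype.card Q : k)⁻¹ • _) = _ • (((Fintype.card Q : k)⁻¹ • _) * τ h)
    rw [mul_smul_comm, smul_mul_assoc, smul_comm, Finset.mul_sum, Finset.sum_mul, Finset.smul_sum,
      Finset.smul_sum, Finset.smul_sum]
    refine Fintype.sum_equiv (Equiv.mulLeft h) _ _ fun q => ?_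
    rw [Equiv.coe_mulLeft, mul_inv_rev, map_mul, map_mul, map_mul, Units.val_mul, mul_smul_comm,
      smul_mul_assoc, smul_smul ((a h : k) ^ (d - 1))⁻¹, mul_pow, inv_mul_cancel_left₀ (pow_ne_zero _ (a h).ne_zero)]
    simp only [mul_assoc]
    rw [← map_mul τ h⁻¹ h, inv_mul_cancel, map_one, mul_one]

end Cfsg.Agent.Char.HalfDegree
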