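import Cfsg.Agent.Lib.Char.HalfDegree.Lift
import Cfsg.Agent.Lib.Char.HalfDegree.Split
import Cfsg.Agent.Lib.Char.HalfDegree.Adjoint
import Cfsg.Agent.Lib.Char.HalfDegree.SOThree

/-!
# A map to `PSL₂` from a representation of degree `(p - 1) / 2` in characteristic `p`
-/

set_option autoImplicit false
set_option linter.unusedSectionVars false
set_option linter.style.haveILetI false

namespace Cfsg.Agent.Char.HalfDegree

open Module LinearMap

variable {k : Type*} [Field k]

/-- A three-dimensional nondegenerate symmetric form has a basis with the standard Gram matrix. -/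
theorem exists_gram_basis [IsAlgClosed k] (h2 : (2 : k) ≠ 0) {W : Type*} [AddCommGroup W]
    [Module k W] [FiniteDimensional k W] (hW : finrank k W = 3) (B : LinearMap.BilinForm k W)
    (hB : ∀ x y, B x y = B y x) (hnd : ∀ x, (∀ y, B x y = 0) → x = 0) :
    ∃ b : Basis (Fin 3) k W, ∀ i j, B (b i) (b j) = gram k i j := by
  classical
  haveI : Invertible (2 : k) := invertibleOfNonzero h2
  obtain ⟨v0, hv0⟩ := LinearMap.BilinForm.exists_orthogonal_basis (B := B) ⟨hB⟩
  let v : Basis (Fin 3) k W := v0.reindex (finCongr hW)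
  have hv : ∀ i j, i ≠ j → B (v i) (v j) = 0 := fun i j hij => by
    simp only [v, Basis.reindex_apply]
    exact hv0 fun h => hij ((finCongr hW).symm.injective h)
  have hdiag : ∀ i, B (v i) (v i) ≠ 0 := by
    intro i h
    refine v.ne_zero i (hnd _ fun y => ?_)
    rw [← v.sum_repr y, map_sum]
    refine Finset.sum_eq_zero fun j _ => ?_
    rw [map_smul]
    rcases eq_or_ne i j with rfl | hne
    · rw [h, smul_zero]
    · rw [hv i j hne, smul_zero]
  choose r hr using fun i => IsAlgClosed.exists_pow_nat_eq (B (v i) (v i)) (n := 2) (by norm_num)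
  have hr0 : ∀ i, r i ≠ 0 := fun i h => hdiag i (by rw [← hr i, h]; simp)
  obtain ⟨x, hxdef⟩ : ∃ x : Fin 3 → W, x = fun i => (r i)⁻¹ • v i := ⟨_, rfl⟩
  have hxx : ∀ i j, B (x i) (x j) = if i = j then 1 else 0 := by
    intro i j
    simp only [hxdef, map_smul, LinearMap.smul_apply, smul_eq_mul]
    split_ifs with h
    · subst h
      have := hr0 i
      rw [← hr i]
      field_simp
    · rw [hv i j h, mul_zero, mul_zero]
  obtain ⟨I, hI⟩ := IsAlgClosed.exists_pow_nat_eq (-1 : k) (n := 2) (by norm_num)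
  obtain ⟨s, hs⟩ := IsAlgClosed.exists_pow_nat_eq (2 : k) (n := 2) (by norm_num)
  let w : Fin 3 → W := ![s • x 2, x 0 + I • x 1, (2 : k)⁻¹ • (x 0 + (-I) • x 1)]
  have hw : ∀ i j, B (w i) (w j) = gram k i j := by
    intro i j
    fin_cases i <;> fin_cases j <;>
      simp [w, gram, map_add, LinearMap.add_apply, hxx] <;>
      first
        | linear_combination hs
        | (field_simp; linear_combination hI)
        | (field_simp; linear_combination -hI)
        | linear_combination hI
  have hli : LinearIndependent k w := by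
    rw [Fintype.linearIndependent_iff]
    intro c hc
    have h : ∀ j, c 0 * gram k j 0 + c 1 * gram k j 1 + c 2 * gram k j 2 = 0 := fun j => by
      have e := congrArg (B (w j)) hc
      simp only [Fin.sum_univ_three, map_add, map_smul, map_zero, hw, smul_eq_mul] at e
      exact e
    have g00 : gram k 0 0 = 2 := rfl
    have g12 : gram k 1 2 = 1 := rfl
    have g21 : gram k 2 1 = 1 := rfl
    have z01 : gram k 0 1 = 0 := rfl
    have z02 : gram k 0 2 = 0 := rfl
    have z10 : gram k 1 0 = 0 := rfl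
    have z11 : gram k 1 1 = 0 := rfl
    have z20 : gram k 2 0 = 0 := rfl
    have z22 : gram k 2 2 = 0 := rfl
    have q0 : c 0 * 2 = 0 := by linear_combination h 0 - c 0 * g00 - c 1 * z01 - c 2 * z02
    have q1 : c 2 = 0 := by linear_combination h 1 - c 2 * g12 - c 0 * z10 - c 1 * z11
    have q2 : c 1 = 0 := by linear_combination h 2 - c 1 * g21 - c 0 * z20 - c 2 * z22
    intro i
    fin_cases i
    exacts [(mul_eq_zero.mp q0).resolve_right h2, q2, q1]
  exact ⟨basisOfLinearIndependentOfCardEqFinrank hli (by rw [Fintype.card_fin, hW]), fun i j => by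
    rw [coe_basisOfLinearIndependentOfCardEqFinrank]; exact hw i j⟩

/-- The truncated logarithm of a unipotent operator, with its behaviour under conjugation. -/
theorem exists_log_conj {p : ℕ} [CharP k p] (hp : p.Prime) {A : Type*} [Ring A] [Algebra k A]
    {u : A} {n : ℕ} (hn : n ≤ p) (hu : u ^ n = 0) :
    ∃ L, L ^ n = 0 ∧ texp k p L = 1 + u ∧
      ∀ (c : A →ₐ[k] A) (a : ℕ), c (1 + u) = (1 + u) ^ a → c L = (a : k) • L := by
  let I : Ideal (Polynomial k) := Ideal.span {(Polynomial.X : Polynomial k) ^ n}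
  let φ : (Polynomial k ⧸ I) →ₐ[k] A := Ideal.Quotient.liftₐ I (Polynomial.aeval u) fun f hf => by
    obtain ⟨g, rfl⟩ := Ideal.mem_span_singleton.mp hf
    rw [map_mul, map_pow, Polynomial.aeval_X, hu, zero_mul]
  let x : Polynomial k ⧸ I := Ideal.Quotient.mkₐ k I Polynomial.X
  have hx : x ^ n = 0 := by
    rw [← map_pow]
    exact Ideal.Quotient.eq_zero_iff_mem.mpr (Ideal.mem_span_singleton_self _)
  have hφx : φ x = u := Polynomial.aeval_X u
  obtain ⟨L, ⟨L', hL'⟩, hLexp⟩ := exists_log (k := k) hp hn hx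
  refine ⟨φ L, by rw [← map_pow, hL', mul_pow, hx, zero_mul, map_zero],
    by rw [← texp_map, hLexp, map_add, map_one, hφx], fun c a hc => ?_⟩
  obtain ⟨w, hw⟩ : ∃ w, (1 + x) ^ a = 1 + x * w := by
    clear hc
    induction a with
    | zero => exact ⟨0, by simp⟩
    | succ a ih =>
      obtain ⟨w, hw⟩ := ih
      exact ⟨w + 1 + x * w, by rw [pow_succ, hw]; ring⟩
  let ψ : (Polynomial k ⧸ I) →ₐ[k] (Polynomial k ⧸ I) :=
    Ideal.Quotient.liftₐ I (Polynomial.aeval (x * w)) fun f hf => by
      obtain ⟨g, rfl⟩ := Ideal.mem_span_singleton.mp hf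
      rw [map_mul, map_pow, Polynomial.aeval_X, mul_pow, hx, zero_mul, zero_mul]
  have hψx : ψ x = x * w := Polynomial.aeval_X _
  have hconj : c.comp φ = φ.comp ψ := by
    refine Ideal.Quotient.algHom_ext k (Polynomial.algHom_ext ?_)
    show c (φ x) = φ (ψ x)
    have e := congrArg φ hw
    rw [map_pow, map_add, map_one, hφx, ← hc, map_add c, map_one c, map_add, map_one] at e
    rw [hφx, hψx]
    exact add_left_cancel e
  have hψL : ψ L = (a : k) • L := by
    refine texp_injective (k := k) hp hn hx ⟨w * ψ L', ?_⟩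
      ⟨(a : k) • L', by rw [hL', mul_smul_comm]⟩ ?_
    · rw [hL', map_mul, hψx, mul_assoc]
    · rw [← texp_map, hLexp, texp_natCast_mul hp hn (by rw [hL', mul_pow, hx, zero_mul]) a,
        hLexp, map_add, map_one, hψx, hw]
  have := AlgHom.congr_fun hconj L
  rw [AlgHom.comp_apply, AlgHom.comp_apply, hψL, map_smul] at this
  exact this

variable {G : Type*} [Group G] [Fintype G] {p n : ℕ} [CharP k p]

/-- The main modular step. -/
theorem exists_psl_map [IsAlgClosed k] (hp : p.Prime) (hpn : 2 * n + 1 = p)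
    (hsq : ¬ p ^ 2 ∣ Nat.card G) (σ : G →* Module.End k (Fin n → k)) {z : G} (hz : orderOf z = p)
    (hσ : σ z ≠ 1) :
    ∃ θ : G →* Matrix.ProjectiveSpecialLinearGroup (Fin 2) k, θ z ≠ 1 := by
  classical
  haveI := Fact.mk hp
  have hzp : z ^ p = 1 := hz ▸ pow_orderOf_eq_one z
  have h2 : (2 : k) ≠ 0 := by
    rw [show (2 : k) = (2 : ℕ) by norm_num, Ne, CharP.cast_eq_zero_iff k p]
    exact fun h => by
      have := (Nat.prime_dvd_prime_iff_eq hp Nat.prime_two).mp h
      omega
  obtain ⟨u, hu⟩ : ∃ u, u = σ z - 1 := ⟨_, rfl⟩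
  have hσu : σ z = 1 + u := by rw [hu, add_sub_cancel]
  have hun : u ^ n = 0 := by
    have hnil : IsNilpotent u := ⟨p, by
      have h := (geom_sum_eq_sub_one_pow (k := k) hp (σ z))
      rw [← Nat.sub_add_cancel hp.one_le, pow_succ, hu, ← h, geom_sum_mul, ← map_pow, hzp, map_one,
        sub_self]⟩
    have h := LinearMap.aeval_self_charpoly u
    rw [hnil.charpoly_eq_X_pow_finrank, map_pow, Polynomial.aeval_X, Module.finrank_fin_fun] at h
    exact h
  obtain ⟨L, hLn, hLexp, hLconj⟩ := exists_log_conj (k := k) hp (show n ≤ p by omega) hun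
  rw [← hσu] at hLexp hLconj
  have hL0 : L ≠ 0 := fun h => hσ (by rw [← hLexp, h, texp_zero hp])
  obtain ⟨d, hd, hdmin⟩ : ∃ d, L ^ d = 0 ∧ ∀ m, m < d → L ^ m ≠ 0 :=
    have hdd : ∃ m, L ^ m = 0 := ⟨n, hLn⟩
    ⟨Nat.find hdd, Nat.find_spec hdd, fun m hm => Nat.find_min hdd hm⟩
  have hdn : d ≤ n := by_contra fun h => hdmin n (by omega) hLn
  have hone : (1 : Module.End k (Fin n → k)) ≠ 0 := fun h => hL0 (by rw [← one_mul L, h, zero_mul])
  have hd2 : 2 ≤ d := by
    by_contra h
    interval_cases d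
    · exact hone (by simpa using hd)
    · exact hL0 (by simpa using hd)
  -- the complement in the normalizer
  obtain ⟨P, hP⟩ : ∃ P, P = Subgroup.zpowers z := ⟨_, rfl⟩
  obtain ⟨N, hN⟩ : ∃ N, N = Subgroup.normalizer (P : Set G) := ⟨_, rfl⟩
  have hPN : P ≤ N := hN ▸ Subgroup.le_normalizer
  haveI : (P.subgroupOf N).Normal := by rw [hN]; exact Subgroup.normal_in_normalizer
  have hPc : Nat.card (P.subgroupOf N) = p := by
    rw [Nat.card_congr (Subgroup.subgroupOfEquivOfLe hPN).toEquiv, hP, Nat.card_zpowers, hz]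
  have hcop : (Nat.card (P.subgroupOf N)).Coprime (P.subgroupOf N).index := by
    rw [hPc, hp.coprime_iff_not_dvd]
    intro h
    refine hsq ((Dvd.dvd.trans ?_ (Subgroup.card_subgroup_dvd_card N)))
    rw [← (P.subgroupOf N).card_mul_index, hPc, pow_two]
    exact mul_dvd_mul_left p h
  obtain ⟨Q, hQ⟩ := Subgroup.exists_right_complement'_of_coprime hcop
  haveI : Fintype Q := Fintype.ofFinite Q
  have hQp : (Fintype.card Q : k) ≠ 0 := by
    rw [Ne, CharP.cast_eq_zero_iff k p, ← Nat.card_eq_fintype_card, ← hQ.symm.index_eq_card]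
    rw [hPc, hp.coprime_iff_not_dvd] at hcop
    exact hcop
  have hex : ∀ q : Q, ∃ a : ℕ, ((q : N) : G) * z * ((q : N) : G)⁻¹ = z ^ a := by
    intro q
    have hmem : ((q : N) : G) * z * ((q : N) : G)⁻¹ ∈ P :=
      (Subgroup.mem_normalizer_iff.mp (hN ▸ (q : N).2) z).mp (hP ▸ Subgroup.mem_zpowers z)
    rw [hP, ← mem_powers_iff_mem_zpowers, Submonoid.mem_powers_iff] at hmem
    obtain ⟨a, ha⟩ := hmem
    exact ⟨a, ha.symm⟩
  choose aN haN using hex
  let τ : Q →* Module.End k (Fin n → k) := σ.comp (N.subtype.comp Q.subtype)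
  have hcancel : ∀ g, σ g⁻¹ * σ g = 1 := fun g => by rw [← map_mul, inv_mul_cancel, map_one]
  have hτL : ∀ q : Q, τ q * L = (aN q : k) • (L * τ q) := by
    intro q
    obtain ⟨g, hg⟩ : ∃ g, g = ((q : N) : G) := ⟨_, rfl⟩
    let c : Module.End k (Fin n → k) →ₐ[k] Module.End k (Fin n → k) :=
      AlgHom.ofLinearMap (conjEnd k σ g)
        (by rw [conjEnd_apply, one_mul, ← map_mul, mul_inv_cancel, map_one]) (conjEnd_mul σ g)
    have h := hLconj c (aN q) (by
      show conjEnd k σ g (σ z) = _
      rw [conjEnd_apply, ← map_mul, ← map_mul, ← mul_assoc, hg, haN q, map_pow])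
    have h' : σ g * (L * σ g⁻¹) = (aN q : k) • L := h
    show σ ((q : N) : G) * L = (aN q : k) • (L * σ ((q : N) : G))
    rw [← hg, ← smul_mul_assoc, ← h', mul_assoc, mul_assoc, hcancel, mul_one]
  have hτinj : ∀ q : Q, ∀ X, τ q * X = 0 → X = 0 := fun q X h => by
    rw [← one_mul X, ← map_one τ, ← inv_mul_cancel q, map_mul, mul_assoc, h, mul_zero]
  have ha0 : ∀ q, (aN q : k) ≠ 0 := fun q h => by
    have := hτL q
    rw [h, zero_smul] at this
    exact hL0 (hτinj q L this)
  have hamul : ∀ q q' : Q, ((aN (q * q') : ℕ) : k) = (aN q : k) * (aN q' : k) := by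
    intro q q'
    have h1 := hτL (q * q')
    have h2 : τ (q * q') * L = ((aN q : k) * (aN q' : k)) • (L * τ (q * q')) := by
      rw [map_mul, mul_assoc, hτL q', mul_smul_comm, ← mul_assoc, hτL q, smul_mul_assoc, smul_smul,
        mul_assoc, mul_comm ((aN q' : k))]
    rw [h2] at h1
    have hLτ : L * τ (q * q') ≠ 0 := fun h0 => hL0 (by
      have e : τ (q * q') * τ (q * q')⁻¹ = 1 := by rw [← map_mul, mul_inv_cancel, map_one]
      rw [← mul_one L, ← e, ← mul_assoc, h0, zero_mul])
    exact smul_left_injective k hLτ h1.symm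
  let a : Q →* kˣ := MonoidHom.mk' (fun q => Units.mk0 (aN q : k) (ha0 q)) fun q q' => Units.ext (hamul q q')
  obtain ⟨R, hR0, hS, hτR⟩ := exists_splitting (show 0 < d by omega) hd (hdmin (d - 1) (by omega)) hQp τ a hτL
  -- the trace of the top idempotent
  obtain ⟨t, ht⟩ : ∃ t : Module.End k (Fin n → k) →ₗ[k] k, t = LinearMap.trace k (Fin n → k) := ⟨_, rfl⟩
  have htc : ∀ x y, t (x * y) = t (y * x) := fun x y => ht ▸ LinearMap.trace_mul_comm k x y
  have hm : t (L ^ (d - 1) * R) ≠ 0 := by
    obtain ⟨P0, hP0⟩ : ∃ P0, P0 = L ^ (d - 1) * R := ⟨_, rfl⟩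
    have hmid := hS.mid (d - 1) (by omega)
    rw [if_pos rfl] at hmid
    have hidem : P0 * P0 = P0 := by rw [hP0, mul_assoc, ← mul_assoc R, hmid]
    have hne : P0 ≠ 0 := fun h => hR0 (by rw [← hmid, mul_assoc, ← hP0, h, mul_zero])
    have hproj : LinearMap.IsProj (LinearMap.range P0) P0 :=
      ⟨fun x => LinearMap.mem_range_self P0 x,
        by rintro _ ⟨y, rfl⟩; rw [← Module.End.mul_apply, hidem]⟩
    rw [← hP0, ht, hproj.trace, Ne,
      CharP.cast_eq_zero_iff k p]
    intro hd'
    have h1 : Module.finrank k (LinearMap.range P0) ≤ n :=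
      (Submodule.finrank_le _).trans_eq (Module.finrank_fin_fun k)
    have h2 : Module.finrank k (LinearMap.range P0) ≠ 0 := fun h => hne
      (LinearMap.range_eq_bot.mp (Submodule.finrank_eq_zero.mp h))
    have := Nat.le_of_dvd (Nat.pos_of_ne_zero h2) hd'
    omega
  -- the projection and its lift
  obtain ⟨e, hee, heN, hesym, he3, ⟨w0, hw0, hw0z⟩, hnil⟩ := exists_projection (N := N) hp hpn σ t htc
    hLn hd2 hdn hS hm hLexp.symm (Set.range fun q : Q => ((q : N) : G)) (by
      rintro _ ⟨q, rfl⟩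
      refine ⟨(aN q : k), ha0 q, ?_, ?_⟩
      · rw [conjEnd_apply, ← mul_assoc, show σ ((q : N) : G) * L = _ from hτL q, smul_mul_assoc,
          mul_assoc]
        show _ • (L * (σ ((q : N) : G) * σ ((q : N) : G)⁻¹)) = _
        rw [← map_mul, mul_inv_cancel, map_one, mul_one]
      · rw [conjEnd_apply, ← mul_assoc, show σ ((q : N) : G) * R = _ from hτR q, smul_mul_assoc,
          mul_assoc]
        show _ • (R * (σ ((q : N) : G) * σ ((q : N) : G)⁻¹)) = _
        rw [← map_mul, mul_inv_cancel, map_one, mul_one]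
        rfl) (by
      intro g hg
      obtain ⟨⟨π, q⟩, hxq, -⟩ := (hQ : Subgroup.IsComplement _ _).existsUnique ⟨g, hg⟩
      have hval : g = ((π : N) : G) * ((q : N) : G) := by
        rw [← Subgroup.coe_mul]; exact congrArg Subtype.val hxq.symm
      rw [hval]
      refine Submonoid.mul_mem _ ?_ (Submonoid.subset_closure (Set.mem_insert_of_mem _ ⟨_, rfl⟩))
      have hπ : ((π : N) : G) ∈ P := π.2
      have hπ' : ((π : N) : G) ∈ Subgroup.zpowers z := (SetLike.ext_iff.mp hP _).mp hπ
      rw [← mem_powers_iff_mem_zpowers, Submonoid.mem_powers_iff] at hπ'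
      obtain ⟨j, hj⟩ := hπ'
      rw [← hj]
      exact Submonoid.pow_mem _ (Submonoid.subset_closure (Set.mem_insert _ _)) j)
  obtain ⟨E, hEE, hEG, ⟨c1, hc1, -⟩, ⟨c2, -, hc2⟩, hΦ⟩ := exists_lift (k := k) (A := Module.End k (Module.End k (Fin n → k))) hp hsq (conjEnd k σ) hz
    hee (fun q hq => heN q (by rw [hN, hP]; exact hq)) (r := 2 * n) (by omega) (by omega) hnil
  have hEsym : ∀ x y, t (E x * y) = t (x * E y) := by
    refine hΦ (fun ψ => ∀ x y, t (ψ x * y) = t (x * ψ y)) (fun x y => rfl) ?_ ?_ ?_ ?_ hesym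
    · intro a b ha hb x y
      simp only [LinearMap.add_apply, add_mul, mul_add, map_add, ha, hb]
    · intro a ha x y
      show t (-(a x) * y) = t (x * -(a y))
      rw [show -(a x) * y = -(a x * y) from neg_mul (α := Module.End k (Fin n → k)) _ _,
        show x * -(a y) = -(x * a y) from mul_neg (α := Module.End k (Fin n → k)) _ _, map_neg, map_neg, ha]
    · intro a ha m
      induction m with
      | zero => intro x y; simp
      | succ m ih =>
        intro x y
        conv_lhs => rw [pow_succ', Module.End.mul_apply, ha, ih]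
        rw [pow_succ, Module.End.mul_apply]
    · intro g a ha x y
      have hcc : ∀ v, conjEnd k σ g (conjEnd k σ g⁻¹ v) = v := fun v => by
        rw [← Module.End.mul_apply, ← map_mul, mul_inv_cancel, map_one, Module.End.one_apply]
      simp only [Module.End.mul_apply]
      conv_lhs => rw [← hcc y, conjEnd_tracial σ t htc, ha]
      conv_rhs => rw [← hcc x, conjEnd_tracial σ t htc]
  obtain ⟨W, hW⟩ : ∃ W, W = LinearMap.range E := ⟨_, rfl⟩
  have hfixE : ∀ x ∈ W, E x = x := by
    rw [hW]; rintro _ ⟨y, rfl⟩; rw [← Module.End.mul_apply, hEE]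
  have hWst : ∀ g, ∀ x ∈ W, conjEnd k σ g x ∈ W := fun g x hx => by
    rw [← hfixE x hx, ← Module.End.mul_apply, (hEG g).eq, Module.End.mul_apply, hW]
    exact LinearMap.mem_range_self E _
  have hinjW : ∀ x ∈ W, e x = 0 → x = 0 := fun x hx h => by
    have h1 := LinearMap.congr_fun hc2 x
    simp only [Module.End.mul_apply, hfixE x hx] at h1
    rw [h, map_zero, map_zero] at h1
    exact h1.symm
  have hsurj : ∀ y, e y = y → ∃ x ∈ W, e x = y := fun y hy => by
    have h1 := LinearMap.congr_fun hc1 y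
    simp only [Module.End.mul_apply, hy] at h1
    exact ⟨E (e (c1 y)), hW ▸ LinearMap.mem_range_self E _, h1⟩
  have hW3 : finrank k W = 3 := by
    let f : W →ₗ[k] LinearMap.range e := e.rangeRestrict ∘ₗ W.subtype
    have hf : Function.Injective f := fun a b hab => Subtype.ext (sub_eq_zero.mp (hinjW _
      (W.sub_mem a.2 b.2) (by rw [map_sub, sub_eq_zero]; exact congrArg Subtype.val hab)))
    have hf' : Function.Surjective f := by
      rintro ⟨y, x0, rfl⟩
      obtain ⟨x, hx, he'⟩ := hsurj (e x0) (by rw [← Module.End.mul_apply, hee])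
      exact ⟨⟨x, hx⟩, Subtype.ext he'⟩
    rw [(LinearEquiv.ofBijective f ⟨hf, hf'⟩).finrank_eq, he3]
  let B : LinearMap.BilinForm k W :=
    LinearMap.mk₂ k (fun x y => t ((x : Module.End k (Fin n → k)) * y))
      (fun a b c => by simp [add_mul]) (fun a b c => by simp)
      (fun a b c => by simp [mul_add]) (fun a b c => by simp)
  have hBs : ∀ x y : W, B x y = B y x := fun x y => htc _ _
  have hBnd : ∀ x : W, (∀ y : W, B x y = 0) → x = 0 := by
    intro x hx
    refine Subtype.ext (LinearMap.ext fun v => funext fun i => ?_)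
    let Y : Module.End k (Fin n → k) := (LinearMap.proj i).smulRight v
    have hh : t ((x : Module.End k (Fin n → k)) * Y) = (x : Module.End k (Fin n → k)) v i := by
      have : (x : Module.End k (Fin n → k)) * Y =
          (LinearMap.proj i).smulRight ((x : Module.End k (Fin n → k)) v) :=
        LinearMap.ext fun w => by simp [Y, Module.End.mul_apply]
      rw [ht, this, LinearMap.trace_smulRight]
      simp
    have h : t ((x : Module.End k (Fin n → k)) * E Y) = 0 :=
      hx ⟨E Y, hW ▸ LinearMap.mem_range_self E Y⟩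
    rw [← hEsym, hfixE _ x.2, hh] at h
    simpa using h
  obtain ⟨b, hb⟩ := exists_gram_basis (W := ↥W) h2 hW3 B hBs hBnd
  let rW : G →* Module.End k W :=
    { toFun := fun g => (conjEnd k σ g).restrict (hWst g)
      map_one' := LinearMap.ext fun x => Subtype.ext (by simp)
      map_mul' := fun g h => LinearMap.ext fun x => Subtype.ext (by simp) }
  let r : G →* Matrix (Fin 3) (Fin 3) k := (LinearMap.toMatrixAlgEquiv b).toMonoidHom.comp rW
  have hr : ∀ g, (r g).transpose * gram k * r g = gram k := by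
    intro g
    have hBinv : B.comp (rW g) (rW g) = B := LinearMap.ext fun x => LinearMap.ext fun y =>
      conjEnd_tracial σ t htc g _ _
    have hG : LinearMap.BilinForm.toMatrix b B = gram k := Matrix.ext fun i j => by
      rw [LinearMap.BilinForm.toMatrix_apply, hb]
    have h := LinearMap.BilinForm.toMatrix_comp b b B (rW g) (rW g)
    rw [hBinv, hG] at h
    exact h.symm
  obtain ⟨θ, hθ⟩ := exists_psl_hom h2 r hr
  refine ⟨θ, fun h => hw0z ?_⟩
  have hdet : (r z).det = 1 := by
    have h1 : (r z).det ^ p = 1 := by rw [← Matrix.det_pow, ← map_pow, hzp, map_one, Matrix.det_one]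
    have h2' := det_sq_eq_one h2 (hr z)
    obtain ⟨j, hj⟩ : ∃ j, p = 2 * j + 1 := ⟨n, hpn.symm⟩
    rwa [hj, pow_succ, pow_mul, pow_two, h2', one_pow, one_mul] at h1
  have hrz : r z = 1 := by
    have := hθ z h
    rwa [hdet, one_smul] at this
  have hrW : rW z = 1 := (LinearMap.toMatrixAlgEquiv b).injective
    (hrz.trans (map_one (LinearMap.toMatrixAlgEquiv b)).symm)
  obtain ⟨x, hx, hxe⟩ := hsurj w0 hw0
  have hzx : conjEnd k σ z x = x := congrArg Subtype.val (LinearMap.congr_fun hrW ⟨x, hx⟩)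
  rw [← hxe, ← Module.End.mul_apply, heN z (hPN (hP ▸ Subgroup.mem_zpowers z)), Module.End.mul_apply, hzx]

end Cfsg.Agent.Char.HalfDegree
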