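import Cfsg.Agent.Lib.Char.HalfDegree.Reduce
import Cfsg.Agent.Lib.Char.HalfDegree.Modular
import Cfsg.Agent.Lib.Char.HalfDegree.FinitePSL
import Cfsg.Agent.Lib.Char.SmallDegreeFirstPower

/-!
# Groups with a faithful character of degree `(p - 1) / 2`
-/

set_option autoImplicit false
set_option linter.unusedSectionVars false
set_option linter.style.haveILetI false

open Cfsg
open scoped ComplexConjugate

namespace Cfsg.Agent.Char.HalfDegree

universe u

section Sylow

variable {X : Type*} [Group X] [Finite X] {p : ℕ} [hp : Fact p.Prime]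

/-- The subgroup generated by an element of order `p` is a Sylow subgroup. -/
noncomputable def sylowOf (hsq : ¬ p ^ 2 ∣ Nat.card X) {z : X} (hz : orderOf z = p) : Sylow p X :=
  Sylow.ofCard (Subgroup.zpowers z) (by
    have h1 : p ∣ Nat.card X := hz ▸ orderOf_dvd_natCard z
    have h2 := (hp.out.dvd_iff_one_le_factorization Nat.card_pos.ne').mp h1
    have h3 : ¬ 2 ≤ (Nat.card X).factorization p := fun h =>
      hsq ((hp.out.pow_dvd_iff_le_factorization Nat.card_pos.ne').mpr h)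
    rw [Nat.card_zpowers, hz, show (Nat.card X).factorization p = 1 by omega, pow_one])

theorem coe_sylowOf (hsq : ¬ p ^ 2 ∣ Nat.card X) {z : X} (hz : orderOf z = p) :
    ((sylowOf hsq hz : Sylow p X) : Subgroup X) = Subgroup.zpowers z := rfl

/-- A normal subgroup of order divisible by `p` contains every element of order `p`. -/
theorem mem_of_dvd_card (hsq : ¬ p ^ 2 ∣ Nat.card X) {z : X} (hz : orderOf z = p) {N : Subgroup X}
    [hN : N.Normal] (h : p ∣ Nat.card N) : z ∈ N := by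
  obtain ⟨x, hx⟩ := exists_prime_orderOf_dvd_card' p h
  have hx' : orderOf (x : X) = p := by rw [Subgroup.orderOf_coe, hx]
  obtain ⟨c, hc⟩ := MulAction.exists_smul_eq X (sylowOf hsq hx') (sylowOf hsq hz)
  have hzm : z ∈ ((c • sylowOf hsq hx' : Sylow p X) : Subgroup X) := by
    rw [hc]; exact Subgroup.mem_zpowers z
  rw [Sylow.coe_subgroup_smul, coe_sylowOf] at hzm
  obtain ⟨y, hy, rfl⟩ := hzm
  exact hN.conj_mem _ (Subgroup.zpowers_le.mpr x.2 hy) c

/-- An element of order `p` commuting with `z` is a power of it. -/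
theorem mem_zpowers_of_commute (hsq : ¬ p ^ 2 ∣ Nat.card X) {z w : X} (hz : orderOf z = p)
    (hw : w ^ p = 1) (hc : Commute z w) : w ∈ Subgroup.zpowers z := by
  have hP : IsPGroup p (Subgroup.zpowers z) := (sylowOf hsq hz).isPGroup'
  have hQ : IsPGroup p (Subgroup.zpowers w) := by
    intro a
    obtain ⟨i, hi⟩ := Subgroup.mem_zpowers_iff.mp a.2
    refine ⟨1, Subtype.ext ?_⟩
    rw [pow_one, SubmonoidClass.coe_pow, ← hi, ← zpow_natCast (w ^ i), ← zpow_mul, mul_comm,
      zpow_mul, zpow_natCast, hw, one_zpow]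
    rfl
  have hle : Subgroup.zpowers w ≤ Subgroup.normalizer (Subgroup.zpowers z : Set X) := by
    refine le_trans ?_ (Subgroup.centralizer_le_normalizer _)
    rw [Subgroup.zpowers_le]
    refine Subgroup.mem_centralizer_iff.mpr fun a ha => ?_
    obtain ⟨i, rfl⟩ := Subgroup.mem_zpowers_iff.mp ha
    exact (hc.zpow_left i).eq
  have hsup := hQ.to_sup_of_normal_right' hP hle
  have he := (sylowOf hsq hz).is_maximal' hsup (by rw [coe_sylowOf]; exact le_sup_right)
  rw [coe_sylowOf] at he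
  exact he ▸ (le_sup_left : Subgroup.zpowers w ≤ _) (Subgroup.mem_zpowers w)

end Sylow

/-- The trace of a sum of the powers of an operator of order dividing `p`. -/
theorem trace_powers {p n : ℕ} (hp : p.Prime) (w : Module.End ℂ (Fin n → ℂ)) (hw : w ^ p = 1) :
    ∃ m : ℕ, LinearMap.trace ℂ _ (∑ j ∈ Finset.range p, w ^ j) = (p : ℂ) * m := by
  obtain ⟨S, hS⟩ : ∃ S, S = ∑ j ∈ Finset.range p, w ^ j := ⟨_, rfl⟩
  rw [← hS]
  have hwS : w * S = S := by
    have h := mul_geom_sum w p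
    rw [hw, sub_self, ← hS, sub_mul, one_mul, sub_eq_zero] at h
    exact h
  have hjS : ∀ j, w ^ j * S = S := by
    intro j
    induction j with
    | zero => rw [pow_zero, one_mul]
    | succ j ih => rw [pow_succ, mul_assoc, hwS, ih]
  have hSS : S * S = (p : ℂ) • S := by
    conv_lhs => rw [hS, Finset.sum_mul, ← hS]
    rw [Finset.sum_congr rfl fun j _ => hjS j, Finset.sum_const, Finset.card_range,
      ← Nat.cast_smul_eq_nsmul ℂ]
  have hp0 : (p : ℂ) ≠ 0 := Nat.cast_ne_zero.mpr hp.ne_zero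
  obtain ⟨E, hE⟩ : ∃ E, E = (p : ℂ)⁻¹ • S := ⟨_, rfl⟩
  have hEE : E * E = E := by
    rw [hE, smul_mul_smul_comm, hSS, smul_smul, mul_assoc, inv_mul_cancel₀ hp0, mul_one]
  have hproj : LinearMap.IsProj (LinearMap.range E) E :=
    ⟨fun x => LinearMap.mem_range_self E x, by rintro _ ⟨y, rfl⟩; rw [← Module.End.mul_apply, hEE]⟩
  refine ⟨Module.finrank ℂ (LinearMap.range E), ?_⟩
  rw [← hproj.trace, hE, map_smul, smul_eq_mul, ← mul_assoc, mul_inv_cancel₀ hp0, one_mul]

theorem main {G : Type u} [Group G] [Fintype G] {p n : ℕ} [hp : Fact p.Prime]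
    (hpn : 2 * n + 1 = p) (hdiv : p ∣ Nat.card G) (hsq : ¬ p ^ 2 ∣ Nat.card G)
    (hnn : ∀ H : Subgroup G, H.Normal → Nat.card H ≠ p) (ρ : Representation ℂ G (Fin n → ℂ))
    (hρ : Function.Injective ρ) :
    Nonempty ((G ⧸ Subgroup.center G) ≃* Matrix.ProjectiveSpecialLinearGroup (Fin 2) (ZMod p)) := by
  classical
  obtain ⟨z, hz⟩ := exists_prime_orderOf_dvd_card' p hdiv
  have hzp : z ^ p = 1 := hz ▸ pow_orderOf_eq_one z
  have hz1 : z ≠ 1 := fun h => hp.out.ne_one (by rw [← hz, h, orderOf_one])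
  have hnot : ¬ ∀ g : G, g * z * g⁻¹ ∈ Subgroup.zpowers z := by
    intro h
    refine hnn (Subgroup.zpowers z) ⟨fun a ha g => ?_⟩ (by rw [Nat.card_zpowers, hz])
    obtain ⟨i, rfl⟩ := Subgroup.mem_zpowers_iff.mp ha
    rw [← conj_zpow]
    exact Subgroup.zpow_mem _ (h g) i
  -- reduction
  obtain ⟨k, _, _, _, σ, hσ⟩ := exists_reduction hp.out ρ hρ
  have hσz : σ z ≠ 1 := by
    intro h
    have hK : IsPGroup p σ.ker := fun x => by
      obtain ⟨j, hj⟩ := hσ x x.2
      exact ⟨j, Subtype.ext (by rw [SubmonoidClass.coe_pow, hj]; rfl)⟩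
    obtain ⟨j, hj⟩ := hK.exists_card_eq
    have hj2 : j < 2 := by
      by_contra hc
      exact hsq ((pow_dvd_pow p (by omega)).trans (hj ▸ Subgroup.card_subgroup_dvd_card σ.ker))
    interval_cases j
    · rw [pow_zero, Subgroup.card_eq_one] at hj
      exact hz1 (by
        have : z ∈ σ.ker := h
        rwa [hj, Subgroup.mem_bot] at this)
    · exact hnn _ inferInstance (by rw [hj, pow_one])
  have hn2 : 2 ≤ n := by
    by_contra hn
    have hp2 := hp.out.two_le
    obtain rfl : n = 1 := by omega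
    apply hσz
    have hpow : ∀ j, (σ z ^ j) 0 0 = σ z 0 0 ^ j := by
      intro j
      induction j with
      | zero => simp
      | succ j ih => simp [pow_succ, Matrix.mul_apply, Fin.sum_univ_one, ih]
    have h1 : (σ z 0 0 - 1) ^ p = 0 := by
      rw [sub_pow_char (p := p), one_pow, ← hpow, ← map_pow, hzp, map_one, Matrix.one_apply_eq, sub_self]
    ext i j
    fin_cases i; fin_cases j
    simpa [sub_eq_zero] using pow_eq_zero_iff hp.out.ne_zero |>.mp h1
  have hp5 : 5 ≤ p := by omega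
  let σ' : G →* Module.End k (Fin n → k) :=
    (Matrix.toLinAlgEquiv' : Matrix (Fin n) (Fin n) k ≃ₐ[k] _).toMonoidHom.comp σ
  obtain ⟨θ, hθ⟩ := exists_psl_map hp.out hpn hsq σ' hz fun h => hσz
    ((Matrix.toLinAlgEquiv' : Matrix (Fin n) (Fin n) k ≃ₐ[k] _).injective (h.trans (map_one _).symm))
  -- the kernel
  obtain ⟨K, hK⟩ : ∃ K, K = θ.ker := ⟨_, rfl⟩
  haveI : K.Normal := hK ▸ inferInstance
  have hKmem : ∀ x, x ∈ K ↔ θ x = 1 := fun x => by rw [hK, MonoidHom.mem_ker]
  have hzK : z ∉ K := fun h => hθ ((hKmem z).mp h)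
  have hKp : ¬ p ∣ Nat.card K := fun h => hzK (mem_of_dvd_card hsq hz h)
  have hn1 : n + 1 < p := by omega
  have hcomm : ∀ x : G, x ^ p = 1 → ∀ c ∈ K, Commute x c := fun x hx c hc =>
    SmallSylow.commute_pprime ρ hρ hn1 1 x (by rwa [pow_one]) K hKp
      (by rw [Subgroup.normalizer_eq_top]; trivial) c hc
  have hKone : ∀ c ∈ K, c ^ p = 1 → c = 1 := fun c hc hcp => by
    by_contra hne
    exact hKp (by
      rw [← orderOf_eq_prime hcp hne]
      have h := orderOf_dvd_natCard (⟨c, hc⟩ : K)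
      rwa [← Subgroup.orderOf_coe] at h)
  -- congruence modulo the kernel
  have hrig : ∀ x y : G, x ^ p = 1 → y ^ p = 1 → θ x = θ y → x = y := by
    intro x y hx hy hxy
    have hc : x⁻¹ * y ∈ K := (hKmem _).mpr (by rw [map_mul, map_inv, hxy, inv_mul_cancel])
    have h1 : (x⁻¹ * y) ^ p = 1 := by
      have hc' := (hcomm x hx _ hc)
      have e : y = x * (x⁻¹ * y) := (mul_inv_cancel_left x y).symm
      have h2 : y ^ p = x ^ p * (x⁻¹ * y) ^ p := by
        conv_lhs => rw [e]
        exact hc'.mul_pow p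
      rw [hy, hx, one_mul] at h2
      exact h2.symm
    exact inv_mul_eq_one.mp (hKone _ hc h1)
  have hconjp : ∀ g, (g * z * g⁻¹) ^ p = 1 := fun g => by
    rw [conj_pow, hzp, mul_one, mul_inv_cancel]
  obtain ⟨g1, hg1⟩ : ∃ g, θ z * θ (g * z * g⁻¹) ≠ θ (g * z * g⁻¹) * θ z := by
    by_contra hall
    push Not at hall
    refine hnot fun g => mem_zpowers_of_commute hsq hz (hconjp g) ?_
    obtain ⟨w, hw⟩ : ∃ w, w = g * z * g⁻¹ := ⟨_, rfl⟩
    rw [← hw]
    have h1 : w * z * w⁻¹ = z := hrig _ _ (by rw [conj_pow, hzp, mul_one, mul_inv_cancel]) hzp (by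
      rw [map_mul, map_mul, map_inv, hw, ← hall g, mul_inv_cancel_right])
    exact (mul_inv_eq_iff_eq_mul.mp h1).symm
  -- the image
  obtain ⟨H, hH⟩ : ∃ H, H = θ.range := ⟨_, rfl⟩
  have hθH : ∀ x, θ x ∈ H := fun x => hH ▸ ⟨x, rfl⟩
  have hHdvd : Nat.card H ∣ Nat.card G := by rw [hH]; exact Subgroup.card_range_dvd θ
  haveI : Finite H := Nat.finite_of_card_ne_zero fun h => Nat.card_pos.ne' (zero_dvd_iff.mp (h ▸ hHdvd))
  let θH : G →* H := θ.codRestrict H hθH
  have hoz : orderOf (θH z) = p := orderOf_eq_prime (by rw [← map_pow, hzp, map_one])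
    fun h => hθ (congrArg Subtype.val h)
  have hHp : p ∣ Nat.card H := hoz ▸ orderOf_dvd_natCard _
  rcases classify_algClosed hp5 H hHp (fun h => hsq (h.trans hHdvd))
    ⟨_, hθH z, _, hθH (g1 * z * g1⁻¹), by rw [← map_pow, hzp, map_one],
      by rw [← map_pow, hconjp, map_one], hg1⟩ with ⟨⟨e⟩⟩ | hpc
  swap
  · -- all powers of `z` would be conjugate
    exfalso
    have hpow : ∀ i : ℕ, ¬ p ∣ i → ∃ g, g * z * g⁻¹ = z ^ i := by
      intro i hi
      obtain ⟨h, hh⟩ := isConj_iff.mp (hpc (θH z) hoz i hi)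
      obtain ⟨g, hg⟩ : ∃ g, θ g = h.1 := by
        have : h.1 ∈ θ.range := hH ▸ h.2
        exact this
      refine ⟨g, hrig _ _ (hconjp g) (by rw [← pow_mul, mul_comm, pow_mul, hzp, one_pow]) ?_⟩
      have h3 := congrArg Subtype.val hh
      simpa [θH, hg] using h3
    obtain ⟨c, hc⟩ : ∃ c, c = ρ.character z := ⟨_, rfl⟩
    have hchar : ∀ j ∈ Finset.range p, j ≠ 0 → LinearMap.trace ℂ _ (ρ z ^ j) = c := by
      intro j hj hj0
      rw [Finset.mem_range] at hj
      obtain ⟨g, hg⟩ := hpow j fun h => by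
        have := Nat.le_of_dvd (Nat.pos_of_ne_zero hj0) h
        omega
      rw [← map_pow, ← hg, hc]
      exact Representation.char_conj ρ z g
    obtain ⟨ζ, hζ⟩ : ∃ ζ : ℂ, IsPrimitiveRoot ζ p :=
      ⟨_, Complex.isPrimitiveRoot_exp p hp.out.ne_zero⟩
    have hsum : ∀ x : ℂ, x ^ p = 1 → ∃ m : ℕ,
        (n : ℂ) + ((∑ j ∈ Finset.range p, x ^ j) - 1) * c = (p : ℂ) * m := by
      intro x hx
      obtain ⟨m, hm⟩ := trace_powers hp.out (x • ρ z)
        (by rw [smul_pow, hx, ← map_pow, hzp, map_one, one_smul])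
      refine ⟨m, hm ▸ ?_⟩
      rw [map_sum, Finset.range_eq_Ico, Finset.sum_eq_sum_Ico_succ_bot hp.out.pos,
        Finset.sum_eq_sum_Ico_succ_bot hp.out.pos, pow_zero, pow_zero, add_sub_cancel_left,
        LinearMap.trace_one, Module.finrank_fin_fun, Finset.sum_mul]
      congr 1
      refine Finset.sum_congr rfl fun j hj => ?_
      rw [Finset.mem_Ico] at hj
      rw [smul_pow, map_smul, hchar j (Finset.mem_range.mpr hj.2) (by omega), smul_eq_mul]
    obtain ⟨m0, hm0⟩ := hsum 1 (one_pow p)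
    obtain ⟨m1, hm1⟩ := hsum ζ hζ.pow_eq_one
    rw [hζ.geom_sum_eq_zero hp.out.one_lt] at hm1
    simp only [one_pow, Finset.sum_const, Finset.card_range, nsmul_eq_mul, mul_one] at hm0
    have hm10 : m1 ≠ 0 := by
      rintro rfl
      refine hz1 (SmallSylow.eq_one_of_char ρ hρ (g := z) ?_)
      rw [← hc]
      push_cast at hm1
      linear_combination -hm1
    have heq : ((p * n : ℕ) : ℂ) = ((p * (m0 + (p - 1) * m1) : ℕ) : ℂ) := by
      push_cast [Nat.cast_sub hp.out.one_le]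
      linear_combination hm0 + ((p : ℂ) - 1) * hm1
    have h1 := Nat.eq_of_mul_eq_mul_left hp.out.pos (Nat.cast_injective heq)
    have h2 : p - 1 ≤ (p - 1) * m1 := Nat.le_mul_of_pos_right _ (Nat.pos_of_ne_zero hm10)
    omega
  -- the image is `PSL₂(p)`
  haveI : IsSimpleGroup (Matrix.ProjectiveSpecialLinearGroup (Fin 2) (ZMod p)) :=
    Matrix.ProjectiveSpecialLinearGroup.rank_two_simple (by rw [Nat.card_zmod]; omega)
  haveI : Nontrivial H := ⟨⟨θH z, 1, fun h => hθ (congrArg Subtype.val h)⟩⟩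
  haveI hsimple : IsSimpleGroup H := IsSimpleGroup.isSimpleGroup_of_surjective e.symm.toMonoidHom e.symm.surjective
  have hθsurj : Function.Surjective θH := by
    rintro ⟨y, hy⟩
    obtain ⟨x, rfl⟩ : y ∈ θ.range := hH ▸ hy
    exact ⟨x, rfl⟩
  have hker : θH.ker = K := by
    ext x
    rw [MonoidHom.mem_ker, hKmem, Subtype.ext_iff]
    rfl
  let eq : (G ⧸ K) ≃* H :=
    (QuotientGroup.quotientMulEquivOfEq hker.symm).trans
      (QuotientGroup.quotientKerEquivOfSurjective θH hθsurj)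
  have hnc : ¬ ∀ a b : H, a * b = b * a := fun h =>
    hg1 (congrArg Subtype.val (h (θH z) (θH (g1 * z * g1⁻¹))))
  -- the normal closure of `z`
  obtain ⟨G0, hG0⟩ : ∃ G0, G0 = Subgroup.normalClosure ({z} : Set G) := ⟨_, rfl⟩
  haveI : G0.Normal := hG0 ▸ inferInstance
  have hzG0 : z ∈ G0 := hG0 ▸ Subgroup.subset_normalClosure (Set.mem_singleton z)
  have hG0K : ∀ g ∈ G0, ∀ c ∈ K, Commute g c := by
    intro g hg c hc
    have hle : G0 ≤ Subgroup.centralizer (K : Set G) := hG0 ▸ Subgroup.normalClosure_le_normal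
      (by rintro x (hx : x = z); rw [hx]
          exact Subgroup.mem_centralizer_iff.mpr fun a ha => (hcomm z hzp a ha).eq.symm)
    exact (Subgroup.mem_centralizer_iff.mp (hle hg) c hc).symm
  have hG0top : ∀ g : G, ∃ g0 ∈ G0, g0⁻¹ * g ∈ K := by
    intro g
    rcases (Subgroup.Normal.map (inferInstance : G0.Normal) θH hθsurj).eq_bot_or_eq_top with h | h
    · exfalso
      have : θH z ∈ G0.map θH := ⟨z, hzG0, rfl⟩
      rw [h, Subgroup.mem_bot] at this
      exact hθ (congrArg Subtype.val this)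
    · obtain ⟨g0, hg0, he⟩ : θH g ∈ G0.map θH := h ▸ Subgroup.mem_top _
      refine ⟨g0, hg0, (hKmem _).mpr ?_⟩
      rw [map_mul, map_inv, show θ g0 = θ g from congrArg Subtype.val he, inv_mul_cancel]
  -- the restriction to the normal closure is irreducible
  let ρ0 : Representation ℂ G0 (Fin n → ℂ) := ρ.comp G0.subtype
  have hρ0 : Function.Injective ρ0 := hρ.comp G0.subtype_injective
  haveI : Fintype G0 := Fintype.ofFinite _
  obtain ⟨m, hm⟩ := exists_decomposition (isCharacter_character ρ0)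
  obtain ⟨φ, hφ, hφz⟩ : ∃ φ : IrrCharacter G0, m φ ≠ 0 ∧
      (φ : G0 → ℂ) ⟨z, hzG0⟩ ≠ (φ : G0 → ℂ) 1 := by
    by_contra hno
    push Not at hno
    have h1 : (⟨z, hzG0⟩ : G0) = 1 := by
      refine SmallSylow.eq_one_of_char ρ0 hρ0 ?_
      have e1 := congrFun hm (⟨z, hzG0⟩ : G0)
      have e2 := congrFun hm 1
      simp only [Finset.sum_apply, Pi.smul_apply] at e1 e2
      rw [e1, ← SmallSylow.char_one_nat ρ0, e2]
      refine Finset.sum_congr rfl fun φ _ => ?_
      by_cases h0 : m φ = 0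
      · rw [h0, zero_smul, zero_smul]
      · rw [hno φ h0]
    exact hz1 (congrArg Subtype.val h1)
  have hsum := SmallSylow.sum_deg m hm (d := n) (SmallSylow.char_one_nat ρ0)
  have hdeg : deg (φ : G0 → ℂ) = n := by
    refine le_antisymm (SmallSylow.deg_le m hm (SmallSylow.char_one_nat ρ0) hφ) ?_
    by_contra hlt
    push Not at hlt
    obtain ⟨d, τ, hτirr, hτ⟩ := φ.2
    have hdd : deg (φ : G0 → ℂ) = d := by
      have h := char_one_eq_deg (irr_isCharacter φ.2)
      rw [← hτ, SmallSylow.char_one_nat τ] at h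
      rw [← hτ]
      exact_mod_cast h.symm
    obtain ⟨K0, hK0⟩ : ∃ K0, K0 = (τ : G0 →* Module.End ℂ (Fin d → ℂ)).ker := ⟨_, rfl⟩
    haveI : K0.Normal := hK0 ▸ inferInstance
    let τ' : Representation ℂ (G0 ⧸ K0) (Fin d → ℂ) := QuotientGroup.lift K0 τ hK0.le
    have hτ' : Function.Injective τ' := by
      intro a b hab
      induction a using QuotientGroup.induction_on with
      | H a =>
        induction b using QuotientGroup.induction_on with
        | H b =>
          have hab' : τ a = τ b := hab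
          rw [QuotientGroup.eq, hK0, MonoidHom.mem_ker, map_mul, ← hab', ← map_mul, inv_mul_cancel, map_one]
    have hz0 : (⟨z, hzG0⟩ : G0) ∉ K0 := by
      rw [hK0, MonoidHom.mem_ker]
      intro h
      refine hφz ?_
      rw [← hτ]
      show LinearMap.trace ℂ _ (τ _) = LinearMap.trace ℂ _ (τ 1)
      rw [h, map_one τ]
    have hsq0 : ¬ p ^ 2 ∣ Nat.card G0 := fun h => hsq (h.trans (Subgroup.card_subgroup_dvd_card G0))
    have hz0o : orderOf (⟨z, hzG0⟩ : G0) = p := by rw [Subgroup.orderOf_mk, hz]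
    have hK0p : ¬ p ∣ Nat.card K0 := fun h => hz0 (mem_of_dvd_card hsq0 hz0o h)
    have hK0K : ∀ x ∈ K0, (x : G) ∈ K := by
      have hsurj : Function.Surjective (θH.comp G0.subtype) := fun y => by
        obtain ⟨g, rfl⟩ := hθsurj y
        obtain ⟨g0, hg0, he⟩ := hG0top g
        refine ⟨⟨g0, hg0⟩, ?_⟩
        have h1 := (hKmem _).mp he
        rw [map_mul, map_inv, inv_mul_eq_one] at h1
        exact Subtype.ext h1
      rcases (Subgroup.Normal.map (inferInstance : K0.Normal) (θH.comp G0.subtype) hsurj).eq_bot_or_eq_top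
        with h | h
      · intro x hx
        have : θH.comp G0.subtype x ∈ K0.map (θH.comp G0.subtype) := ⟨x, hx, rfl⟩
        rw [h, Subgroup.mem_bot] at this
        exact (hKmem _).mpr (congrArg Subtype.val this)
      · exfalso
        refine hK0p (hHp.trans ?_)
        have := Subgroup.card_map_dvd K0 (θH.comp G0.subtype)
        rwa [h, Subgroup.card_top] at this
    haveI : Fintype (G0 ⧸ K0) := Fintype.ofFinite _
    have hzq : orderOf ((⟨z, hzG0⟩ : G0) : G0 ⧸ K0) = p :=
      orderOf_eq_prime (by rw [← QuotientGroup.mk_pow, show (⟨z, hzG0⟩ : G0) ^ p = 1 from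
        Subtype.ext hzp, QuotientGroup.mk_one]) fun h => hz0 ((QuotientGroup.eq_one_iff _).mp h)
    have hsqq : ¬ p ^ 2 ∣ Nat.card (G0 ⧸ K0) := fun h => hsq0 (h.trans (Subgroup.card_quotient_dvd_card K0))
    have hnorm := SmallBound.normal_sylow_first_power (p := p) (show 2 * d + 1 < p by omega) _
      (G0 ⧸ K0) τ' rfl hτ' hsqq (sylowOf hsqq hzq)
    refine hnot fun g => ?_
    obtain ⟨g0, hg0, he⟩ := hG0top g
    have h1 := hnorm.conj_mem _ (Subgroup.mem_zpowers ((⟨z, hzG0⟩ : G0) : G0 ⧸ K0))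
      ((⟨g0, hg0⟩ : G0) : G0 ⧸ K0)
    rw [coe_sylowOf] at h1
    obtain ⟨i, hi⟩ := Subgroup.mem_zpowers_iff.mp h1
    rw [← QuotientGroup.mk_inv, ← QuotientGroup.mk_mul, ← QuotientGroup.mk_mul, ← QuotientGroup.mk_zpow,
      QuotientGroup.eq] at hi
    have h2 := (hKmem _).mp (hK0K _ hi)
    push_cast at h2
    rw [map_mul, map_inv, inv_mul_eq_one] at h2
    have h3 : z ^ i = g0 * z * g0⁻¹ := hrig _ _ (by
      rw [← zpow_natCast, ← zpow_mul, mul_comm, zpow_mul, zpow_natCast, hzp, one_zpow]) (hconjp g0) h2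
    have h4 : g * z * g⁻¹ = g0 * z * g0⁻¹ := by
      refine hrig _ _ (hconjp g) (hconjp g0) ?_
      have h5 := (hKmem _).mp he
      rw [map_mul, map_inv, inv_mul_eq_one] at h5
      simp only [map_mul, map_inv, h5]
    rw [h4, ← h3]
    exact Subgroup.zpow_mem _ (Subgroup.mem_zpowers z) i
  have hchar : ρ0.character = (φ : G0 → ℂ) := by
    have hsplit := Finset.add_sum_erase Finset.univ (fun ψ => m ψ * deg (ψ : G0 → ℂ)) (Finset.mem_univ φ)
    simp only [← hsum, hdeg] at hsplit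
    have hge : n ≤ m φ * n := Nat.le_mul_of_pos_left _ (Nat.pos_of_ne_zero hφ)
    have hmφ : m φ = 1 := Nat.eq_of_mul_eq_mul_right (show 0 < n by omega) (by omega)
    have hrest : ∀ ψ, ψ ≠ φ → m ψ = 0 := fun ψ hψ => by
      have h0 : ∑ ψ ∈ Finset.univ.erase φ, m ψ * deg (ψ : G0 → ℂ) = 0 := by omega
      have := Finset.sum_eq_zero_iff.mp h0 ψ (Finset.mem_erase.mpr ⟨hψ, Finset.mem_univ _⟩)
      exact (mul_eq_zero.mp this).resolve_right (deg_pos ψ.2).ne'
    rw [hm, Finset.sum_eq_single φ (fun ψ _ hψ => by rw [hrest ψ hψ, zero_smul])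
      (fun h => absurd (Finset.mem_univ _) h), hmφ, one_smul]
  have hscalar : ∀ c ∈ K, ∀ d ∈ K, Commute c d := by
    have hdim : Module.finrank ℂ (ρ0.IntertwiningMap ρ0) = 1 := by
      have h := classInner_rep ρ0 ρ0
      rw [hchar, irr_self φ.2] at h
      exact_mod_cast h.symm
    have hsc : ∀ c ∈ K, ∃ a : ℂ, ρ c = a • LinearMap.id := by
      intro c hc
      let T : ρ0.IntertwiningMap ρ0 := (ρ c).intertwiningMap_of_isIntertwiningMap ρ0 ρ0 fun g v => by
        show ρ c (ρ (g : G) v) = ρ (g : G) (ρ c v)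
        rw [← Module.End.mul_apply, ← map_mul, ← (hG0K g g.2 c hc).eq, map_mul, Module.End.mul_apply]
      let I : ρ0.IntertwiningMap ρ0 := (LinearMap.id).intertwiningMap_of_isIntertwiningMap ρ0 ρ0 fun g v => rfl
      obtain ⟨a, ha⟩ := (finrank_eq_one_iff_of_nonzero' I fun h => by
        have h' := congrArg (fun F : ρ0.IntertwiningMap ρ0 => F (Pi.single ⟨0, by omega⟩ 1) ⟨0, by omega⟩) h
        simp [I] at h').mp hdim T
      refine ⟨a, LinearMap.ext fun v => ?_⟩
      exact (congrArg (fun F : ρ0.IntertwiningMap ρ0 => F v) ha).symm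
    intro c hc d hd
    obtain ⟨a, ha⟩ := hsc c hc
    obtain ⟨b, hb⟩ := hsc d hd
    refine hρ ?_
    rw [map_mul, map_mul, ha, hb]
    refine LinearMap.ext fun v => ?_
    simp [smul_smul, mul_comm]
  have hcenter : K = Subgroup.center G := by
    refine le_antisymm (fun c hc => Subgroup.mem_center_iff.mpr fun g => ?_) fun c hc => ?_
    · obtain ⟨g0, hg0, he⟩ := hG0top g
      have h := (hG0K g0 hg0 c hc).mul_left (hscalar _ he c hc)
      rw [mul_inv_cancel_left] at h
      exact h.eq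
    · have hcc : θH c ∈ Subgroup.center H := Subgroup.mem_center_iff.mpr fun y => by
        obtain ⟨g, rfl⟩ := hθsurj y
        rw [← map_mul, ← map_mul, Subgroup.mem_center_iff.mp hc g]
      rcases (inferInstance : (Subgroup.center H).Normal).eq_bot_or_eq_top with h | h
      · rw [h, Subgroup.mem_bot] at hcc
        exact (hKmem c).mpr (congrArg Subtype.val hcc)
      · exact absurd (fun a b => Subgroup.mem_center_iff.mp (h ▸ Subgroup.mem_top b) a) hnc
  exact ⟨(QuotientGroup.quotientMulEquivOfEq hcenter.symm).trans (eq.trans e)⟩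

end Cfsg.Agent.Char.HalfDegree
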