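import Cfsg.Agent.Lib.Char.RelProj
import Mathlib

/-!
# Lifting an idempotent from the normalizer of a Sylow subgroup of order `p`

If `z` generates a Sylow subgroup of order `p` and `(ρ z - 1) ^ r = 0` with `r < p`, then an
idempotent commuting with the normalizer of the subgroup differs from one commuting with the
whole group by an operator in the ideal `(ρ z - 1) A` of the commutant of `z`.
-/

set_option autoImplicit false
set_option linter.unusedSectionVars false

namespace Cfsg.Agent.Char.HalfDegree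

open Finset

section Negligible

variable {A : Type*} [Ring A] {u : A}

/-- The operators commuting with `u` which lie in `u A`. -/
def Negl (u x : A) : Prop := Commute u x ∧ ∃ X, x = u * X

theorem Negl.zero : Negl u 0 := ⟨Commute.zero_right u, 0, (mul_zero u).symm⟩

theorem Negl.add {x y : A} (hx : Negl u x) (hy : Negl u y) : Negl u (x + y) := by
  obtain ⟨h1, X, rfl⟩ := hx
  obtain ⟨h2, Y, rfl⟩ := hy
  exact ⟨h1.add_right h2, X + Y, (mul_add u X Y).symm⟩

theorem Negl.neg {x : A} (hx : Negl u x) : Negl u (-x) := by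
  obtain ⟨h1, X, rfl⟩ := hx
  exact ⟨h1.neg_right, -X, (mul_neg u X).symm⟩

theorem Negl.sub {x y : A} (hx : Negl u x) (hy : Negl u y) : Negl u (x - y) := by
  rw [sub_eq_add_neg]
  exact hx.add hy.neg

theorem Negl.mul_left {x c : A} (hx : Negl u x) (hc : Commute u c) : Negl u (c * x) := by
  obtain ⟨h1, X, rfl⟩ := hx
  exact ⟨hc.mul_right h1, c * X, by rw [← mul_assoc, ← mul_assoc, hc.eq]⟩

theorem Negl.mul_right {x c : A} (hx : Negl u x) (hc : Commute u c) : Negl u (x * c) := by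
  obtain ⟨h1, X, rfl⟩ := hx
  exact ⟨h1.mul_right hc, X * c, mul_assoc u X c⟩

theorem Negl.pow_eq {x : A} (hx : Negl u x) : ∀ j : ℕ, ∃ Y, x ^ j = u ^ j * Y
  | 0 => ⟨1, by rw [pow_zero, pow_zero, mul_one]⟩
  | j + 1 => by
    obtain ⟨h1, X, rfl⟩ := hx
    obtain ⟨Y, hY⟩ := Negl.pow_eq (x := u * X) ⟨h1, X, rfl⟩ j
    refine ⟨X * Y, ?_⟩
    rw [pow_succ', hY, ← mul_assoc, ← (h1.pow_left j).eq]
    simp only [pow_succ, mul_assoc]

theorem Negl.pow_zero_of {x : A} (hx : Negl u x) {r : ℕ} (hu : u ^ r = 0) : x ^ r = 0 := by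
  obtain ⟨Y, hY⟩ := hx.pow_eq r
  rw [hY, hu, zero_mul]

theorem Negl.pow_sub {a b : A} (ha : Commute u a) (hb : Commute u b) (h : Negl u (a - b)) :
    ∀ n : ℕ, Negl u (a ^ n - b ^ n)
  | 0 => by rw [pow_zero, pow_zero, sub_self]; exact Negl.zero
  | n + 1 => by
    rw [show a ^ (n + 1) - b ^ (n + 1) = a * (a ^ n - b ^ n) + (a - b) * b ^ n by
      rw [pow_succ', pow_succ', mul_sub, sub_mul]; abel]
    exact ((Negl.pow_sub ha hb h n).mul_left ha).add (h.mul_right (hb.pow_right n))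

/-- Two congruent idempotents are invertible on each other. -/
theorem exists_corner_inverse {a b : A} (ha : a * a = a) (hau : Commute u a)
    (h : Negl u (b - a)) {r : ℕ} (hu : u ^ r = 0) :
    ∃ c, c * (a * b * a) = a ∧ (a * b * a) * c = a := by
  obtain ⟨ψ, hψ⟩ : ∃ ψ, ψ = a * (b - a) * a := ⟨_, rfl⟩
  have hψN : Negl u ψ := hψ ▸ (h.mul_left hau).mul_right hau
  have hψ0 : (-ψ) ^ r = 0 := hψN.neg.pow_zero_of hu
  have haψ : a * ψ = ψ := by rw [hψ, ← mul_assoc, ← mul_assoc, ha]
  have hψa : ψ * a = ψ := by rw [hψ, mul_assoc, ha]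
  have heq : a * b * a = a + ψ := by
    rw [hψ, mul_sub, sub_mul, ha, ha]; abel
  obtain ⟨S, hS⟩ : ∃ S, S = ∑ i ∈ range r, (-ψ) ^ i := ⟨_, rfl⟩
  have hcomm : Commute (a + ψ) S := by
    have h1 : Commute a ψ := haψ.trans hψa.symm
    have h2 : Commute (a + ψ) (-ψ) := (h1.add_left (Commute.refl ψ)).neg_right
    exact hS ▸ Commute.sum_right _ _ _ fun i _ => h2.pow_right i
  have key : S * (a + ψ) = a := by
    rw [show a + ψ = (1 - -ψ) * a by rw [sub_neg_eq_add, add_mul, one_mul, hψa],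
      ← mul_assoc, hS, geom_sum_mul_neg, hψ0, sub_zero, one_mul]
  refine ⟨S * a, ?_, ?_⟩
  · rw [heq, mul_assoc, mul_add, ha, haψ, key]
  · rw [heq, ← mul_assoc, hcomm.eq, key, ha]

/-- The idempotent attached to a near-idempotent. -/
def idem (r : ℕ) (S : A) : A := 1 - (1 - S ^ r) ^ r

theorem idem_mul_self {S e : A} (hS : Commute u S) (he : Commute u e) (hee : e * e = e)
    (h : Negl u (S - e)) {r : ℕ} (hu : u ^ r = 0) : idem r S * idem r S = idem r S := by
  have hN : Negl u (S * (1 - S)) := by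
    have h1 : S * (1 - S) = (S - e) * (1 - S) + e * (e - S) := by
      rw [sub_mul, mul_sub, mul_sub, mul_sub, hee, mul_one, mul_one]; abel
    rw [h1]
    exact (h.mul_right ((Commute.one_right u).sub_right hS)).add
      (((neg_sub S e) ▸ h.neg).mul_left he)
  have h0 : (S * (1 - S)) ^ r = 0 := hN.pow_zero_of hu
  obtain ⟨f, hf⟩ : (Polynomial.X * (1 - Polynomial.X)) ^ r ∣
      (1 - (1 - (Polynomial.X : Polynomial ℤ) ^ r) ^ r) * (1 - Polynomial.X ^ r) ^ r := by
    rw [mul_pow]
    refine mul_dvd_mul ?_ (pow_dvd_pow_of_dvd ?_ r)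
    · have h := sub_dvd_pow_sub_pow (1 : Polynomial ℤ) (1 - Polynomial.X ^ r) r
      rwa [one_pow, show (1 : Polynomial ℤ) - (1 - Polynomial.X ^ r) = Polynomial.X ^ r by ring] at h
    · simpa using sub_dvd_pow_sub_pow (1 : Polynomial ℤ) Polynomial.X r
  have h2 := congrArg (Polynomial.aeval S) hf
  simp only [map_mul, map_pow, map_sub, map_one, Polynomial.aeval_X] at h2
  rw [h0, zero_mul] at h2
  have h3 : idem r S * (1 - idem r S) = 0 := by rw [idem, sub_sub_cancel]; exact h2
  rw [mul_sub, mul_one, sub_eq_zero] at h3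
  exact h3.symm

theorem negl_idem_sub {S e : A} (hS : Commute u S) (he : Commute u e) (hee : e * e = e)
    (h : Negl u (S - e)) {r : ℕ} (hr : 0 < r) : Negl u (idem r S - e) := by
  have he' : ∀ x : A, x * x = x → x ^ r = x := fun x hx => by
    exact IsIdempotentElem.pow_eq hx hr.ne'
  have h1 : Negl u (S ^ r - e) := by simpa only [he' e hee] using Negl.pow_sub hS he h r
  have hc1 : Commute u (1 - S ^ r) := (Commute.one_right u).sub_right (hS.pow_right r)
  have hc2 : Commute u (1 - e) := (Commute.one_right u).sub_right he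
  have h2 : Negl u ((1 - S ^ r) - (1 - e)) := by
    rw [show (1 - S ^ r) - (1 - e) = -(S ^ r - e) by abel]
    exact h1.neg
  have h3 := (Negl.pow_sub hc1 hc2 h2 r).neg
  rw [he' (1 - e) (by rw [sub_mul, mul_sub, mul_sub, hee, one_mul, one_mul, mul_one]; abel)] at h3
  rwa [show idem r S - e = -((1 - S ^ r) ^ r - (1 - e)) by rw [idem]; abel]

theorem commute_idem {x S : A} (h : Commute x S) (r : ℕ) : Commute x (idem r S) :=
  (Commute.one_right x).sub_right (((Commute.one_right x).sub_right (h.pow_right r)).pow_right r)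

end Negligible

section Average

variable {k : Type*} [Field k] {A : Type*} [Ring A] [Algebra k A] {G : Type*} [Group G] [Fintype G]
  (ρ : G →* A) (N : Subgroup G) (e : A)

/-- The conjugate of `e` by `g`. -/
def conjT (g : G) : A := ρ g * e * ρ g⁻¹

/-- The relative trace of `e`. -/
noncomputable def relTr : A :=
  haveI := Classical.decPred (· ∈ N)
  ∑ x : G ⧸ N, conjT ρ e x.out

variable {ρ N e}

theorem conjT_out (he : ∀ q ∈ N, ρ q * e = e * ρ q) (g : G) :
    conjT ρ e (g : G ⧸ N).out = conjT ρ e g := by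
  obtain ⟨q, hq⟩ := QuotientGroup.mk_out_eq_mul N g
  rw [hq, conjT, conjT, mul_inv_rev, map_mul, map_mul]
  simp only [mul_assoc]
  rw [← mul_assoc (ρ ↑q), he q q.2, mul_assoc, ← mul_assoc (ρ ↑q), ← map_mul, mul_inv_cancel, map_one,
    one_mul]

theorem commute_relTr (he : ∀ q ∈ N, ρ q * e = e * ρ q) (g : G) : Commute (ρ g) (relTr ρ N e) := by
  classical
  have h1 : ρ g * relTr ρ N e * ρ g⁻¹ = relTr ρ N e := by
    rw [relTr, Finset.mul_sum, Finset.sum_mul]
    refine Fintype.sum_equiv (MulAction.toPerm g) _ _ fun x => ?_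
    have hx : g • x = ((g * x.out : G) : G ⧸ N) := by
      conv_lhs => rw [← QuotientGroup.out_eq' x]
      rfl
    rw [MulAction.toPerm_apply, hx, conjT_out he, conjT, conjT, mul_inv_rev, map_mul, map_mul]
    simp only [mul_assoc]
  show ρ g * _ = _ * ρ g
  conv_rhs => rw [← h1]
  rw [mul_assoc (ρ g * _), ← map_mul, inv_mul_cancel, map_one, mul_one]

/-- The sum of the conjugates over a regular orbit of `z` lies in `u A`. -/
theorem sum_orbit_dvd {p : ℕ} [CharP k p] (hp : p.Prime) {z : G} (f : A) {r : ℕ}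
    (hr : r ≤ p - 1) (hu : (ρ z - 1) ^ r = 0) :
    ∃ X, ∑ j ∈ range p, ρ z ^ j * f * ρ z⁻¹ ^ j = (ρ z - 1) * X := by
  obtain ⟨u, hu'⟩ : ∃ u, u = ρ z - 1 := ⟨_, rfl⟩
  rw [← hu'] at hu ⊢
  have hzz : ρ z * ρ z⁻¹ = 1 := by rw [← map_mul, mul_inv_cancel, map_one]
  let L : Module.End k A := LinearMap.mulLeft k (ρ z) * LinearMap.mulRight k (ρ z⁻¹)
  have hL : ∀ x, L x = ρ z * (x * ρ z⁻¹) := fun x => rfl
  have hLj : ∀ j, (L ^ j) f = ρ z ^ j * f * ρ z⁻¹ ^ j := by
    intro j
    induction j with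
    | zero => simp
    | succ j ih =>
      rw [pow_succ', Module.End.mul_apply, ih, hL, pow_succ', pow_succ]
      simp only [mul_assoc]
  have hD : ∀ m : ℕ, ∃ X, ((L - 1) ^ m) f = (u * X + (-1 : A) ^ m * (f * u ^ m)) * ρ z⁻¹ ^ m := by
    intro m
    induction m with
    | zero => exact ⟨0, by simp⟩
    | succ m ih =>
      obtain ⟨X, hX⟩ := ih
      refine ⟨u * X + (-1 : A) ^ m * (f * u ^ m) - X * u, ?_⟩
      rw [pow_succ' (L - 1), Module.End.mul_apply, hX, LinearMap.sub_apply, Module.End.one_apply, hL]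
      obtain ⟨g, hg⟩ : ∃ g, g = u * X + (-1 : A) ^ m * (f * u ^ m) := ⟨_, rfl⟩
      rw [← hg]
      have h1 : ρ z * (g * ρ z⁻¹ ^ m * ρ z⁻¹) - g * ρ z⁻¹ ^ m
          = (u * g - g * u) * ρ z⁻¹ ^ (m + 1) := by
        have h2 : u * g - g * u = ρ z * g - g * ρ z := by
          rw [hu', sub_mul, mul_sub, one_mul, mul_one]; abel
        have h3 : ρ z * ρ z⁻¹ ^ (m + 1) = ρ z⁻¹ ^ m := by rw [pow_succ', ← mul_assoc, hzz, one_mul]
        rw [h2, sub_mul, mul_assoc g (ρ z), h3]
        simp only [pow_succ, mul_assoc]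
      rw [h1]
      congr 1
      have h4 : g * u = u * (X * u) + (-1 : A) ^ m * (f * u ^ (m + 1)) := by
        rw [hg, add_mul, pow_succ]
        simp only [mul_assoc]
      rw [h4, mul_sub, pow_succ (-1 : A), mul_neg_one, neg_mul]
      abel
  obtain ⟨X, hX⟩ := hD (p - 1)
  refine ⟨X * ρ z⁻¹ ^ (p - 1), ?_⟩
  have h5 : u ^ (p - 1) = 0 := by
    obtain ⟨m, hm⟩ := Nat.exists_eq_add_of_le hr
    rw [hm, pow_add, hu, zero_mul]
  rw [h5, mul_zero, mul_zero, add_zero, ← geom_sum_eq_sub_one_pow (k := k) hp L, LinearMap.sum_apply] at hX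
  rw [← Finset.sum_congr rfl fun j _ => hLj j, hX, mul_assoc]

end Average

section Main

variable {k : Type*} [Field k] {A : Type*} [Ring A] [Algebra k A] {G : Type*} [Group G] [Fintype G]

/-- An element fixing a coset of the normalizer lies in that coset only. -/
theorem eq_one_of_smul_eq {p : ℕ} (hp : p.Prime) (hsq : ¬ p ^ 2 ∣ Nat.card G) {z : G}
    (hz : orderOf z = p)
    {x : G ⧸ Subgroup.normalizer (Subgroup.zpowers z : Set G)} (hx : z • x = x) :
    x = ((1 : G) : G ⧸ Subgroup.normalizer (Subgroup.zpowers z : Set G)) := by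
  classical
  haveI := Fact.mk hp
  obtain ⟨g, rfl⟩ := QuotientGroup.mk_surjective x
  have h1 : g⁻¹ * z * g ∈ Subgroup.normalizer (Subgroup.zpowers z : Set G) := by
    have h := QuotientGroup.eq.mp hx.symm
    simpa [mul_assoc] using h
  obtain ⟨P, hP⟩ : ∃ P, P = Subgroup.zpowers z := ⟨_, rfl⟩
  rw [← hP] at h1 ⊢
  have hPc : Nat.card P = p := by rw [hP, Nat.card_zpowers, hz]
  let K := P.subgroupOf (Subgroup.normalizer (P : Set G))
  haveI : K.Normal := Subgroup.normal_in_normalizer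
  have hKc : Nat.card K = p := by
    rw [Nat.card_congr (Subgroup.subgroupOfEquivOfLe Subgroup.le_normalizer).toEquiv, hPc]
  have hmem : g⁻¹ * z * g ∈ P := by
    have hq : ((⟨_, h1⟩ : Subgroup.normalizer (P : Set G)) : _ ⧸ K) = 1 := by
      refine orderOf_eq_one_iff.mp ((Nat.dvd_prime hp).mp ?_ |>.resolve_right ?_)
      · refine orderOf_dvd_of_pow_eq_one ?_
        rw [← QuotientGroup.mk_pow, QuotientGroup.eq_one_iff, Subgroup.mem_subgroupOf,
          SubmonoidClass.coe_pow]
        have h := MulAut.conj (g⁻¹) |>.toMonoidHom.map_pow z p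
        simp only [MulEquiv.coe_toMonoidHom, MulAut.conj_apply, inv_inv] at h
        rw [← h, ← hz, pow_orderOf_eq_one]
        simp
      · intro he
        apply hsq
        have hd : p ∣ K.index := by
          rw [Subgroup.index_eq_card]
          exact he ▸ orderOf_dvd_natCard _
        refine (Dvd.dvd.trans ?_ (Subgroup.card_subgroup_dvd_card (Subgroup.normalizer (P : Set G))))
        rw [← K.card_mul_index, hKc, pow_two]
        exact mul_dvd_mul_left p hd
    rwa [QuotientGroup.eq_one_iff, Subgroup.mem_subgroupOf] at hq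
  have hfwd : ∀ w ∈ P, g⁻¹ * w * g ∈ P := fun w hw => by
    rw [hP] at hw
    obtain ⟨i, rfl⟩ := Subgroup.mem_zpowers_iff.mp hw
    have h := MulAut.conj (g⁻¹) |>.toMonoidHom.map_zpow z i
    simp only [MulEquiv.coe_toMonoidHom, MulAut.conj_apply, inv_inv] at h
    rw [h]
    exact P.zpow_mem hmem i
  have hg : g⁻¹ ∈ Subgroup.normalizer (P : Set G) :=
    Subgroup.mem_normalizer_fintype fun w hw => by simpa using hfwd w hw
  exact QuotientGroup.eq.mpr (by simpa using hg)

/-- The relative trace of `e` is congruent to `e`. -/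
theorem negl_relTr_sub {p : ℕ} [CharP k p] (hp : p.Prime) (hsq : ¬ p ^ 2 ∣ Nat.card G) (ρ : G →* A)
    {z : G} (hz : orderOf z = p) {e : A}
    (he : ∀ q ∈ Subgroup.normalizer (Subgroup.zpowers z : Set G), ρ q * e = e * ρ q)
    {r : ℕ} (hr : r ≤ p - 1) (hu : (ρ z - 1) ^ r = 0) :
    Negl (ρ z - 1) (relTr ρ (Subgroup.normalizer (Subgroup.zpowers z : Set G)) e - e) := by
  classical
  haveI := Fact.mk hp
  obtain ⟨N, hN⟩ : ∃ N, N = Subgroup.normalizer (Subgroup.zpowers z : Set G) := ⟨_, rfl⟩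
  rw [← hN] at he ⊢
  have hzN : z ∈ N := hN ▸ Subgroup.le_normalizer (Subgroup.mem_zpowers z)
  refine ⟨((commute_relTr he z).sub_right (he z hzN)).sub_left (Commute.one_left _), ?_⟩
  have hzp : z ^ p = 1 := hz ▸ pow_orderOf_eq_one z
  have hmain : ∀ n, ∀ Y : Finset (G ⧸ N), Y.card = n → (∀ y ∈ Y, z • y ∈ Y) →
      (∀ y ∈ Y, z • y ≠ y) → ∃ X, ∑ y ∈ Y, conjT ρ e y.out = (ρ z - 1) * X := by
    intro n
    induction n using Nat.strong_induction_on with
    | _ n ih =>
      intro Y hY hst hfree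
      rcases Y.eq_empty_or_nonempty with rfl | ⟨x, hx⟩
      · exact ⟨0, by simp⟩
      have hper : MulAction.period z x = p := by
        have h1 : MulAction.period z x ∣ p := by
          rw [← MulAction.pow_smul_eq_iff_period_dvd, hzp, one_smul]
        refine ((Nat.dvd_prime hp).mp h1).resolve_left fun h => hfree x hx ?_
        exact MulAction.period_eq_one_iff.mp h
      have hmemY : ∀ i, z ^ i • x ∈ Y := by
        intro i
        induction i with
        | zero => simpa using hx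
        | succ i ih => rw [pow_succ', mul_smul]; exact hst _ ih
      obtain ⟨O, hO⟩ : ∃ O, O = (range p).image fun i => z ^ i • x := ⟨_, rfl⟩
      have hinj : Set.InjOn (fun i => z ^ i • x) (range p : Finset ℕ) := by
        suffices key : ∀ i j, i ≤ j → j < p → z ^ i • x = z ^ j • x → i = j by
          intro i hi j hj hij
          simp only [coe_range, Set.mem_Iio] at hi hj
          rcases le_total i j with h | h
          exacts [key i j h hj hij, (key j i h hi hij.symm).symm]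
        intro i j hle hj hij
        obtain ⟨d, rfl⟩ := Nat.exists_eq_add_of_le hle
        have h1 : z ^ d • x = x := by
          simp only [pow_add, mul_smul] at hij
          exact (MulAction.injective _ hij).symm
        rw [MulAction.pow_smul_eq_iff_period_dvd, hper] at h1
        rcases Nat.eq_zero_or_pos d with h | h
        · omega
        · exact absurd (Nat.le_of_dvd h h1) (by omega)
      have hsub : O ⊆ Y := by
        rw [hO, image_subset_iff]
        exact fun i _ => hmemY i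
      have hxO : x ∈ O := hO ▸ mem_image.mpr ⟨0, mem_range.mpr hp.pos, by simp⟩
      have hlt : (Y \ O).card < n := hY ▸ card_lt_card (sdiff_ssubset hsub ⟨x, hxO⟩)
      have hst' : ∀ y ∈ Y \ O, z • y ∈ Y \ O := by
        intro y hy
        rw [mem_sdiff] at hy ⊢
        refine ⟨hst y hy.1, fun hc => hy.2 ?_⟩
        rw [hO, mem_image] at hc ⊢
        obtain ⟨i, -, hi⟩ := hc
        refine ⟨(i + (p - 1)) % p, mem_range.mpr (Nat.mod_lt _ hp.pos), ?_⟩
        show z ^ ((i + (p - 1)) % p) • x = y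
        rw [← pow_eq_pow_mod _ hzp, Nat.add_comm, pow_add, mul_smul]
        show z ^ (p - 1) • z ^ i • x = y
        rw [hi, ← mul_smul, ← pow_succ, Nat.sub_add_cancel hp.one_le, hzp, one_smul]
      obtain ⟨X1, hX1⟩ := ih _ hlt (Y \ O) rfl hst' fun y hy => hfree y (mem_sdiff.mp hy).1
      obtain ⟨X2, hX2⟩ := sum_orbit_dvd (k := k) (ρ := ρ) hp (conjT ρ e x.out) hr hu
      refine ⟨X1 + X2, ?_⟩
      rw [← sum_sdiff hsub, hX1, mul_add, ← hX2]
      congr 1
      rw [hO, sum_image hinj]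
      refine sum_congr rfl fun i _ => ?_
      have hxi : z ^ i • x = ((z ^ i * x.out : G) : G ⧸ N) := by
        conv_lhs => rw [← QuotientGroup.out_eq' x]
        rfl
      rw [hxi, conjT_out he, conjT, conjT, ← map_pow, ← map_pow, mul_inv_rev, map_mul, map_mul,
        inv_pow]
      simp only [mul_assoc]
  obtain ⟨X, hX⟩ := hmain _ (univ.erase ((1 : G) : G ⧸ N)) rfl
    (fun y hy => mem_erase.mpr ⟨fun h => (mem_erase.mp hy).1 (by
      rw [show y = z⁻¹ • ((1 : G) : G ⧸ N) by rw [← h, inv_smul_smul]]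
      exact QuotientGroup.eq.mpr (by simpa using hzN)), mem_univ _⟩)
    (fun y hy h => (mem_erase.mp hy).1 (by subst hN; exact eq_one_of_smul_eq hp hsq hz h))
  refine ⟨X, ?_⟩
  rw [← hX, relTr, ← add_sum_erase _ _ (mem_univ ((1 : G) : G ⧸ N)), conjT_out he, conjT]
  simp

/-- **Lifting of idempotents** from the normalizer of a Sylow subgroup of order `p`. -/
theorem exists_lift {p : ℕ} [CharP k p] (hp : p.Prime) (hsq : ¬ p ^ 2 ∣ Nat.card G) (ρ : G →* A)
    {z : G} (hz : orderOf z = p) {e : A} (hee : e * e = e)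
    (he : ∀ q ∈ Subgroup.normalizer (Subgroup.zpowers z : Set G), ρ q * e = e * ρ q)
    {r : ℕ} (hr0 : 0 < r) (hr : r ≤ p - 1) (hu : (ρ z - 1) ^ r = 0) :
    ∃ E : A, E * E = E ∧ (∀ g, Commute (ρ g) E) ∧
      (∃ c, (e * E * e) * c = e ∧ c * (e * E * e) = e) ∧
      (∃ c, (E * e * E) * c = E ∧ c * (E * e * E) = E) ∧
      ∀ Φ : A → Prop, Φ 1 → (∀ a b, Φ a → Φ b → Φ (a + b)) → (∀ a, Φ a → Φ (-a)) →
        (∀ a, Φ a → ∀ n : ℕ, Φ (a ^ n)) → (∀ g a, Φ a → Φ (ρ g * a * ρ g⁻¹)) → Φ e → Φ E := by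
  obtain ⟨N, hN⟩ : ∃ N, N = Subgroup.normalizer (Subgroup.zpowers z : Set G) := ⟨_, rfl⟩
  have hneg : Negl (ρ z - 1) (relTr ρ N e - e) := hN ▸ negl_relTr_sub (k := k) hp hsq ρ hz he hr hu
  rw [← hN] at he
  have hzN : z ∈ N := hN ▸ Subgroup.le_normalizer (Subgroup.mem_zpowers z)
  obtain ⟨S, hS⟩ : ∃ S, S = relTr ρ N e := ⟨_, rfl⟩
  rw [← hS] at hneg
  have hcS : ∀ g, Commute (ρ g) S := fun g => hS ▸ commute_relTr he g
  have huS : Commute (ρ z - 1) S := (hcS z).sub_left (Commute.one_left _)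
  have hue : Commute (ρ z - 1) e := Commute.sub_left (he z hzN) (Commute.one_left _)
  have hEe := negl_idem_sub huS hue hee hneg hr0
  have hEE := idem_mul_self huS hue hee hneg hu
  obtain ⟨c1, hc1, hc1'⟩ := exists_corner_inverse hee hue hEe hu
  obtain ⟨c2, hc2, hc2'⟩ := exists_corner_inverse hEE (commute_idem huS r)
    (b := e) (by rw [← neg_sub (idem r S) e]; exact hEe.neg) hu
  refine ⟨idem r S, hEE, fun g => commute_idem (hcS g) r, ⟨c1, hc1', hc1⟩, ⟨c2, hc2', hc2⟩,
    fun Φ h1 hadd hneg' hpow hconj he' => ?_⟩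
  classical
  have h0 : Φ 0 := by simpa using hadd _ _ h1 (hneg' _ h1)
  have hΦS : Φ S := by
    rw [hS, relTr]
    exact Finset.sum_induction _ Φ hadd h0 fun x _ => hconj _ _ he'
  have hsub : ∀ a b, Φ a → Φ b → Φ (a - b) := fun a b ha hb => by
    rw [sub_eq_add_neg]; exact hadd _ _ ha (hneg' _ hb)
  exact hsub _ _ h1 (hpow _ (hsub _ _ h1 (hpow _ hΦS r)) r)

end Main

end Cfsg.Agent.Char.HalfDegree
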