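import Cfsg.Agent.Lib.Char.Knorr
import Cfsg.Agent.Lib.Char.SmallDegreeSylow

/-!
# Reduction of a complex representation modulo `p`
-/

set_option autoImplicit false
set_option linter.style.haveILetI false

namespace Cfsg.Agent.Char.HalfDegree

universe u

theorem exists_valuation_nonunit {p : ℕ} (hp : p.Prime) :
    ∃ V : ValuationSubring ℂ, ¬ IsUnit (p : V) := by
  obtain ⟨M, hM⟩ := exists_pModular hp
  obtain ⟨V, -, hV⟩ := exists_valuation hM
  exact ⟨V, hV⟩

theorem residue_isAlgClosed (V : ValuationSubring ℂ) :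
    IsAlgClosed (IsLocalRing.ResidueField V) := by
  refine IsAlgClosed.of_exists_root _ fun q hq hirr => ?_
  have hlift : q ∈ Polynomial.lifts (IsLocalRing.residue V) :=
    (Polynomial.lifts_iff_coeff_lifts q).mpr fun n => IsLocalRing.residue_surjective _
  obtain ⟨P, hP, hdeg, hmon⟩ := Polynomial.lifts_and_degree_eq_and_monic hlift hq
  have hd0 : (P.map (algebraMap V ℂ)).degree ≠ 0 := by
    rw [hmon.degree_map, hdeg]
    exact (Polynomial.degree_pos_of_irreducible hirr).ne'
  obtain ⟨z, hz⟩ := IsAlgClosed.exists_root (P.map (algebraMap V ℂ)) hd0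
  have hzi : IsIntegral V z := ⟨P, hmon, by rwa [← Polynomial.eval_map]⟩
  obtain ⟨x, rfl⟩ := IsIntegrallyClosed.isIntegral_iff.mp hzi
  refine ⟨IsLocalRing.residue V x, ?_⟩
  have hx : P.eval x = 0 := by
    apply IsFractionRing.injective V ℂ
    rw [map_zero, ← Polynomial.eval₂_at_apply, ← Polynomial.eval_map]
    exact hz
  show Polynomial.eval _ q = 0
  rw [← hP, Polynomial.eval_map, Polynomial.eval₂_at_apply, hx, map_zero]

/-- A faithful complex representation gives a representation over an algebraically closed field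
of characteristic `p` whose kernel consists of `p`-elements. -/
theorem exists_reduction {G : Type u} [Group G] [Fintype G] {p n : ℕ} (hp : p.Prime)
    (ρ : Representation ℂ G (Fin n → ℂ)) (hρ : Function.Injective ρ) :
    ∃ (k : Type) (_ : Field k) (_ : IsAlgClosed k) (_ : CharP k p) (σ : G →* Matrix (Fin n) (Fin n) k),
      ∀ g, σ g = 1 → ∃ j, g ^ p ^ j = 1 := by
  classical
  obtain ⟨V, hV⟩ := exists_valuation_nonunit hp
  obtain ⟨s, R, hR, -⟩ := exists_matrix_form V ρ
  have hs : n = s := by
    have h := hR 1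
    rw [map_one ρ, map_one R, LinearMap.trace_one, Matrix.trace_one, Module.finrank_fin_fun,
      Fintype.card_fin] at h
    exact_mod_cast h
  subst hs
  haveI := residue_isAlgClosed V
  have hp0 : ((p : ℕ) : IsLocalRing.ResidueField V) = 0 := by
    rw [← map_natCast (IsLocalRing.residue V), IsLocalRing.residue_eq_zero_iff]
    exact hV
  haveI : CharP (IsLocalRing.ResidueField V) p := (CharP.charP_iff_prime_eq_zero hp).mpr hp0
  refine ⟨_, inferInstance, inferInstance, inferInstance,
    (IsLocalRing.residue V).mapMatrix.toMonoidHom.comp R, fun g hg => ?_⟩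
  obtain ⟨a, m, hm, hgm⟩ := Nat.exists_eq_pow_mul_and_not_dvd (orderOf_pos g).ne' p hp.ne_one
  refine ⟨a, ?_⟩
  obtain ⟨h, hh⟩ : ∃ h, h = g ^ p ^ a := ⟨_, rfl⟩
  rw [← hh]
  have hhm : h ^ m = 1 := by rw [hh, ← pow_mul, ← hgm, pow_orderOf_eq_one]
  have hres : (IsLocalRing.residue V).mapMatrix (R h) = 1 := by
    rw [hh, map_pow, map_pow]
    exact (congrArg (· ^ p ^ a) hg).trans (one_pow _)
  obtain ⟨S, hS⟩ : ∃ S, S = ∑ i ∈ Finset.range m, R h ^ i := ⟨_, rfl⟩
  have hunit : IsUnit S := by
    rw [Matrix.isUnit_iff_isUnit_det, ← IsLocalRing.residue_ne_zero_iff_isUnit,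
      RingHom.map_det, hS, map_sum]
    simp only [map_pow, hres, one_pow, Finset.sum_const, Finset.card_range]
    rw [show m • (1 : Matrix (Fin n) (Fin n) (IsLocalRing.ResidueField V)) =
      Matrix.diagonal fun _ => (m : IsLocalRing.ResidueField V) by
        rw [nsmul_one, ← Matrix.diagonal_natCast], Matrix.det_diagonal, Finset.prod_const]
    exact pow_ne_zero _ fun h0 => hm ((CharP.cast_eq_zero_iff _ p m).mp h0)
  have hmul : (R h - 1) * S = 0 := by
    rw [hS, mul_geom_sum, ← map_pow, hhm, map_one, sub_self]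
  have hR1 : R h = 1 := sub_eq_zero.mp (hunit.mul_left_eq_zero.mp hmul)
  apply hρ
  rw [map_one]
  have htr := hR h
  rw [hR1, Matrix.trace_one, Fintype.card_fin] at htr
  exact (SmallSylow.eq_one_of_char ρ hρ (g := h) (by simpa [Representation.character] using htr)) ▸ map_one ρ

end Cfsg.Agent.Char.HalfDegree
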