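import Mathlib

/-!
# An `sl₂`-triple attached to a nilpotent element and a splitting of its top power
-/

set_option autoImplicit false
set_option linter.unusedSectionVars false

namespace Cfsg.Agent.Char.HalfDegree

open Finset Matrix

variable {k : Type*} [Field k] {A : Type*} [Ring A] [Algebra k A]

/-- `R` splits the top power of `L`: `R L ^ m R` is `R` for `m = d - 1` and `0` below. -/
structure Splitting (L R : A) (d : ℕ) : Prop where
  nil : L ^ d = 0
  mid : ∀ m, m < d → R * L ^ m * R = if m = d - 1 then R else 0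

variable {L R : A} {d : ℕ}

/-- The matrix units. -/
def munit (L R : A) (d i j : ℕ) : A := L ^ i * R * L ^ (d - 1 - j)

theorem munit_mul (h : Splitting L R d) {i j a b : ℕ} (hj : j < d) (ha : a < d) :
    munit L R d i j * munit L R d a b = if j = a then munit L R d i b else 0 := by
  have e : munit L R d i j * munit L R d a b =
      L ^ i * (R * L ^ (d - 1 - j + a) * R) * L ^ (d - 1 - b) := by
    simp only [munit, pow_add, mul_assoc]
  rw [e]
  rcases lt_trichotomy j a with hlt | rfl | hgt
  · obtain ⟨m, hm⟩ := Nat.exists_eq_add_of_le (show d ≤ d - 1 - j + a by omega)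
    rw [if_neg hlt.ne, hm, pow_add, h.nil]
    simp
  · rw [if_pos rfl, show d - 1 - j + j = d - 1 by omega, h.mid _ (by omega), if_pos rfl]
    rfl
  · rw [if_neg hgt.ne', h.mid _ (by omega), if_neg (by omega)]
    simp

variable (k L R d) in
/-- The matrix algebra carried by the splitting. -/
noncomputable def embed : Matrix (Fin d) (Fin d) k →ₗ[k] A where
  toFun M := ∑ i : Fin d, ∑ j : Fin d, M i j • munit L R d i j
  map_add' M N := by simp [add_smul, sum_add_distrib]
  map_smul' a M := by simp [smul_sum, smul_smul]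

theorem embed_apply (M : Matrix (Fin d) (Fin d) k) :
    embed k L R d M = ∑ i : Fin d, ∑ j : Fin d, M i j • munit L R d i j := rfl

theorem embed_mul (h : Splitting L R d) (M N : Matrix (Fin d) (Fin d) k) :
    embed k L R d (M * N) = embed k L R d M * embed k L R d N := by
  rw [embed_apply, embed_apply, embed_apply, Finset.sum_mul]
  refine sum_congr rfl fun i _ => ?_
  rw [Finset.sum_mul]
  simp only [Matrix.mul_apply, Finset.sum_smul]
  rw [Finset.sum_comm]
  refine sum_congr rfl fun j _ => ?_
  rw [Finset.mul_sum]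
  refine ((Finset.sum_eq_single j ?_ ?_).trans ?_).symm
  · intro a _ ha
    rw [Finset.mul_sum]
    refine sum_eq_zero fun b _ => ?_
    rw [smul_mul_smul_comm, munit_mul h j.2 a.2, if_neg fun he => ha (Fin.ext he.symm), smul_zero]
  · simp
  · rw [Finset.mul_sum]
    refine sum_congr rfl fun b _ => ?_
    rw [smul_mul_smul_comm, munit_mul h j.2 j.2, if_pos rfl]

variable (k d) in
/-- The shift matrix. -/
def shiftM : Matrix (Fin d) (Fin d) k := Matrix.of fun i j => if (i : ℕ) = j + 1 then 1 else 0

variable (k d) in
/-- The weight matrix. -/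
def weightM : Matrix (Fin d) (Fin d) k := Matrix.diagonal fun i => 2 * (i : ℕ) + 1 - (d : k)

variable (k d) in
/-- The lowering matrix. -/
def lowerM : Matrix (Fin d) (Fin d) k :=
  Matrix.of fun i j => if (j : ℕ) = i + 1 then (((i : ℕ) : k) + 1) * ((d : k) - 1 - (i : ℕ)) else 0

theorem left_embed_one (h : Splitting L R d) :
    L * embed k L R d 1 = embed k L R d (shiftM k d) := by
  simp only [embed_apply, Finset.mul_sum]
  refine (Finset.sum_comm).trans ((Finset.sum_congr rfl fun j _ => ?_).trans Finset.sum_comm)
  rw [Finset.sum_eq_single j (fun i _ hi => by simp [Matrix.one_apply_ne hi]) (by simp),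
    Matrix.one_apply_eq, one_smul]
  rcases Nat.lt_or_ge ((j : ℕ) + 1) d with hlt | hge
  · rw [Finset.sum_eq_single (⟨(j : ℕ) + 1, hlt⟩ : Fin d) (fun i _ hi => by
      have : (i : ℕ) ≠ (j : ℕ) + 1 := fun e => hi (Fin.ext e)
      simp [shiftM, this]) (by simp)]
    simp [shiftM, munit, pow_succ', mul_assoc]
  · rw [Finset.sum_eq_zero fun i _ => ?_]
    · have e : L ^ ((j : ℕ) + 1) = 0 := by
        rw [show (j : ℕ) + 1 = d by omega, h.nil]
      rw [munit, ← mul_assoc, ← mul_assoc, ← pow_succ', e]
      simp
    · have : (i : ℕ) ≠ (j : ℕ) + 1 := by omega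
      simp [shiftM, this]

theorem embed_one_right (h : Splitting L R d) :
    embed k L R d 1 * L = embed k L R d (shiftM k d) := by
  simp only [embed_apply, Finset.sum_mul]
  refine Finset.sum_congr rfl fun i _ => ?_
  rw [Finset.sum_eq_single i (fun j _ hj => by simp [Matrix.one_apply_ne hj.symm]) (by simp),
    Matrix.one_apply_eq, one_smul, munit, mul_assoc, ← pow_succ]
  rcases Nat.eq_zero_or_pos (i : ℕ) with h0 | hpos
  · rw [Finset.sum_eq_zero fun j _ => ?_]
    · rw [h0, show d - 1 - 0 + 1 = d by omega, h.nil, mul_zero]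
    · have : (i : ℕ) ≠ (j : ℕ) + 1 := by omega
      simp [shiftM, this]
  · rw [Finset.sum_eq_single (⟨(i : ℕ) - 1, by omega⟩ : Fin d) (fun j _ hj => by
      have : (i : ℕ) ≠ (j : ℕ) + 1 := fun e => hj (Fin.ext (by simp only; omega))
      simp [shiftM, this]) (by simp)]
    simp only [shiftM, Matrix.of_apply, munit]
    rw [if_pos (by omega), one_smul]
    congr 2
    omega

theorem left_embed (h : Splitting L R d) (M : Matrix (Fin d) (Fin d) k) :
    L * embed k L R d M = embed k L R d (shiftM k d * M) := by
  rw [embed_mul h, ← left_embed_one h, mul_assoc, ← embed_mul h, one_mul]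

theorem right_embed (h : Splitting L R d) (M : Matrix (Fin d) (Fin d) k) :
    embed k L R d M * L = embed k L R d (M * shiftM k d) := by
  rw [embed_mul h, ← embed_one_right h, ← mul_assoc, ← embed_mul h, mul_one]

theorem shift_weight : shiftM k d * weightM k d - weightM k d * shiftM k d = (-2 : k) • shiftM k d := by
  ext i j
  simp only [weightM, Matrix.sub_apply, Matrix.mul_diagonal, Matrix.diagonal_mul, Matrix.smul_apply,
    shiftM, Matrix.of_apply, smul_eq_mul]
  split_ifs with he
  · rw [show ((i : ℕ) : k) = (j : ℕ) + 1 by rw [he]; push_cast; ring]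
    ring
  · ring

theorem shift_lower_diag :
    shiftM k d * lowerM k d = Matrix.diagonal fun i : Fin d => ((i : ℕ) : k) * ((d : k) - (i : ℕ)) := by
  ext i l
  rw [Matrix.mul_apply]
  rcases Nat.eq_zero_or_pos (i : ℕ) with h0 | hpos
  · rw [Finset.sum_eq_zero fun j _ => by simp [shiftM, h0]]
    rcases eq_or_ne i l with rfl | hne
    · simp [h0]
    · simp [hne]
  · rw [Finset.sum_eq_single (⟨(i : ℕ) - 1, by omega⟩ : Fin d) (fun j _ hj => by
      have : (i : ℕ) ≠ (j : ℕ) + 1 := fun e => hj (Fin.ext (by simp only; omega))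
      simp [shiftM, this]) (by simp)]
    simp only [shiftM, lowerM, Matrix.of_apply]
    rw [if_pos (by omega), one_mul, Matrix.diagonal_apply]
    rcases eq_or_ne i l with rfl | hne
    · rw [if_pos (by omega), if_pos rfl, Nat.cast_sub (by omega), Nat.cast_one]
      ring
    · rw [if_neg hne, if_neg fun e => hne (Fin.ext (by omega))]

theorem lower_shift_diag : lowerM k d * shiftM k d =
    Matrix.diagonal fun i : Fin d => (((i : ℕ) : k) + 1) * ((d : k) - 1 - (i : ℕ)) := by
  ext i l
  rw [Matrix.mul_apply]
  rcases Nat.lt_or_ge ((i : ℕ) + 1) d with hlt | hge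
  · rw [Finset.sum_eq_single (⟨(i : ℕ) + 1, hlt⟩ : Fin d) (fun j _ hj => by
      have : (j : ℕ) ≠ (i : ℕ) + 1 := fun e => hj (Fin.ext e)
      simp [lowerM, this]) (by simp)]
    rcases eq_or_ne i l with rfl | hne
    · simp [shiftM, lowerM]
    · have : (i : ℕ) ≠ (l : ℕ) := fun e => hne (Fin.ext e)
      simp [shiftM, lowerM, hne, this]
  · rw [Finset.sum_eq_zero fun j _ => by
      have : (j : ℕ) ≠ (i : ℕ) + 1 := by omega
      simp [lowerM, this]]
    rcases eq_or_ne i l with rfl | hne
    · have he : (d : k) = ((i : ℕ) : k) + 1 := by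
        rw [← Nat.cast_one (R := k), ← Nat.cast_add]
        congr 1
        omega
      simp [he]
    · simp [hne]

theorem shift_lower : shiftM k d * lowerM k d - lowerM k d * shiftM k d = weightM k d := by
  rw [shift_lower_diag, lower_shift_diag, Matrix.diagonal_sub, weightM]
  congr 1
  ext i
  ring

variable (k L R d)

/-- The raising element. -/
noncomputable def tripL : A := embed k L R d (shiftM k d)
/-- The weight element. -/
noncomputable def tripH : A := embed k L R d (weightM k d)
/-- The lowering element. -/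
noncomputable def tripF : A := embed k L R d (lowerM k d)

variable {k L R d}

theorem comm_L (h : Splitting L R d) : L * tripL k L R d - tripL k L R d * L = 0 := by
  rw [tripL, left_embed h, right_embed h, sub_self]

theorem comm_H (h : Splitting L R d) :
    L * tripH k L R d - tripH k L R d * L = (-2 : k) • tripL k L R d := by
  rw [tripH, tripL, left_embed h, right_embed h, ← map_sub, shift_weight, map_smul]

theorem comm_F (h : Splitting L R d) :
    L * tripF k L R d - tripF k L R d * L = tripH k L R d := by
  rw [tripH, tripF, left_embed h, right_embed h, ← map_sub, shift_lower]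

theorem sum_weights : ∀ n : ℕ, (6 : k) * ∑ i ∈ range n, (i : k) * ((d : k) - i) =
    3 * (n : k) * ((n : k) - 1) * d - (n : k) * ((n : k) - 1) * (2 * n - 1)
  | 0 => by simp
  | n + 1 => by
    rw [sum_range_succ, mul_add, sum_weights n]
    push_cast
    ring

section Twist

variable (c : A →ₐ[k] A) {a : k}

theorem map_munit (hL : c L = a • L) (hR : c R = (a ^ (d - 1))⁻¹ • R) (ha : a ≠ 0) {i j : ℕ}
    (hj : j < d) : c (munit L R d i j) = (a ^ i * (a ^ j)⁻¹) • munit L R d i j := by
  rw [munit, map_mul, map_mul, map_pow, map_pow, hL, hR, smul_pow, smul_pow, smul_mul_smul_comm,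
    smul_mul_smul_comm]
  congr 1
  rw [show d - 1 = j + (d - 1 - j) by omega, pow_add, show j + (d - 1 - j) - j = d - 1 - j by omega]
  field_simp

theorem map_embed (hL : c L = a • L) (hR : c R = (a ^ (d - 1))⁻¹ • R) (ha : a ≠ 0)
    (M : Matrix (Fin d) (Fin d) k) {b : k}
    (hM : ∀ i j : Fin d, M i j ≠ 0 → a ^ (i : ℕ) * (a ^ (j : ℕ))⁻¹ = b) :
    c (embed k L R d M) = b • embed k L R d M := by
  simp only [embed_apply, map_sum, map_smul, Finset.smul_sum]
  refine sum_congr rfl fun i _ => sum_congr rfl fun j _ => ?_
  rw [map_munit c hL hR ha j.2]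
  by_cases h0 : M i j = 0
  · simp [h0]
  · rw [hM i j h0, smul_comm]

theorem map_triple (hL : c L = a • L) (hR : c R = (a ^ (d - 1))⁻¹ • R) (ha : a ≠ 0) :
    c (tripL k L R d) = a • tripL k L R d ∧ c (tripH k L R d) = tripH k L R d ∧
      c (tripF k L R d) = a⁻¹ • tripF k L R d := by
  refine ⟨map_embed c hL hR ha _ fun i j hij => ?_, ?_, map_embed c hL hR ha _ fun i j hij => ?_⟩
  · have he : (i : ℕ) = j + 1 := by_contra fun hc => hij (if_neg hc)
    rw [he, pow_succ]
    field_simp
  · refine (map_embed c hL hR ha (weightM k d) (b := 1) fun i j hij => ?_).trans (one_smul k _)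
    have he : i = j := by_contra fun hc => hij (Matrix.diagonal_apply_ne _ hc)
    rw [he]
    exact mul_inv_cancel₀ (pow_ne_zero _ ha)
  · have he : (j : ℕ) = i + 1 := by_contra fun hc => hij (if_neg hc)
    rw [he, pow_succ]
    field_simp

end Twist

section Trace

variable (t : A →ₗ[k] k)

theorem trace_embed (ht : ∀ x y, t (x * y) = t (y * x)) (h : Splitting L R d)
    (M : Matrix (Fin d) (Fin d) k) :
    t (embed k L R d M) = t (L ^ (d - 1) * R) * M.trace := by
  simp only [embed_apply, map_sum, map_smul, Matrix.trace, Matrix.diag, Finset.mul_sum]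
  refine sum_congr rfl fun i _ => ?_
  rw [Finset.sum_eq_single i]
  · rw [smul_eq_mul, mul_comm]
    congr 1
    rw [munit, mul_assoc, ht, mul_assoc, ← pow_add, show d - 1 - (i : ℕ) + i = d - 1 by omega, ht]
  · intro j _ hj
    have hji : (j : ℕ) ≠ i := fun e => hj (Fin.ext e)
    have hz : t (munit L R d i j) = 0 := by
      have := ht (munit L R d i i) (munit L R d i j)
      rw [munit_mul h i.2 i.2, munit_mul h j.2 i.2, if_pos rfl, if_neg hji, map_zero] at this
      exact this
    rw [hz, smul_zero]
  · simp

/-- The trace form on the triple. -/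
theorem trace_triple (ht : ∀ x y, t (x * y) = t (y * x)) (h : Splitting L R d) :
    t (tripL k L R d * tripL k L R d) = 0 ∧ t (tripF k L R d * tripF k L R d) = 0 ∧
    t (tripL k L R d * tripH k L R d) = 0 ∧ t (tripH k L R d * tripF k L R d) = 0 ∧
    t (tripH k L R d * tripH k L R d) = 2 * t (tripL k L R d * tripF k L R d) ∧
    6 * t (tripL k L R d * tripF k L R d) =
      t (L ^ (d - 1) * R) * ((d : k) * ((d : k) - 1) * ((d : k) + 1)) := by
  have e : ∀ M N, t (embed k L R d M * embed k L R d N) = t (L ^ (d - 1) * R) * (M * N).trace :=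
    fun M N => by rw [← embed_mul h, trace_embed t ht h]
  have z : ∀ M N : Matrix (Fin d) (Fin d) k, (∀ i j, M i j = 0 ∨ N j i = 0) →
      t (embed k L R d M * embed k L R d N) = 0 := by
    intro M N hMN
    rw [e, Matrix.trace, Finset.sum_eq_zero fun i _ => ?_, mul_zero]
    rw [Matrix.diag, Matrix.mul_apply]
    exact Finset.sum_eq_zero fun j _ => mul_eq_zero.mpr (hMN i j)
  refine ⟨z _ _ fun i j => ?_, z _ _ fun i j => ?_, z _ _ fun i j => ?_, z _ _ fun i j => ?_, ?_, ?_⟩
  · simp only [shiftM, Matrix.of_apply]
    split_ifs <;> first | omega | simp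
  · simp only [lowerM, Matrix.of_apply]
    split_ifs <;> first | omega | simp
  · rcases eq_or_ne i j with rfl | hne
    · left; simp [shiftM]
    · right; exact Matrix.diagonal_apply_ne _ hne.symm
  · rcases eq_or_ne i j with rfl | hne
    · right; simp [lowerM]
    · left; exact Matrix.diagonal_apply_ne _ hne
  · have hF : tripL k L R d * tripF k L R d - tripF k L R d * tripL k L R d = tripH k L R d := by
      rw [tripL, tripF, tripH, ← embed_mul h, ← embed_mul h, ← map_sub, shift_lower]
    have hH : tripH k L R d * tripL k L R d - tripL k L R d * tripH k L R d =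
        (2 : k) • tripL k L R d := by
      rw [tripL, tripH, ← embed_mul h, ← embed_mul h, ← map_sub, ← neg_sub, shift_weight,
        ← neg_smul, neg_neg, map_smul]
    calc t (tripH k L R d * tripH k L R d)
        = t (tripH k L R d * (tripL k L R d * tripF k L R d - tripF k L R d * tripL k L R d)) := by
          rw [hF]
      _ = t ((tripH k L R d * tripL k L R d - tripL k L R d * tripH k L R d) * tripF k L R d) := by
          rw [mul_sub, sub_mul, map_sub, map_sub, ← mul_assoc, ← mul_assoc, ht (tripH k L R d * tripF k L R d),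
            mul_assoc, mul_assoc]
      _ = 2 * t (tripL k L R d * tripF k L R d) := by rw [hH, smul_mul_assoc, map_smul, smul_eq_mul]
  · rw [tripL, tripF, e, shift_lower_diag, Matrix.trace_diagonal, mul_left_comm]
    congr 1
    rw [Fin.sum_univ_eq_sum_range (fun i => (i : k) * ((d : k) - i)), sum_weights]
    ring

end Trace

end Cfsg.Agent.Char.HalfDegree
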